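import Mathlib
import Cfsg.Prelude.Def_ClassificationStages
import Cfsg.Agent.Lib.Grp.LBalance
import Cfsg.Agent.Lib.Grp.PComponents
import Cfsg.Agent.Lib.Grp.ComponentSplit
import Cfsg.Agent.Lib.Grp.Subnormal
import Cfsg.Agent.Lib.Invol.Sylow
import Cfsg.Agent.Lib.Fus.TerminalComponent
import Cfsg.Agent.Lib.Invol.PComponentOf

/-!
# Involutions with a 2-component containing one involution

Basic properties: the image in the centralizer modulo its core, lifting of 2-elements, commuting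
of distinct 2-components inside 2-groups.
-/

set_option autoImplicit false
set_option linter.unusedSectionVars false
set_option linter.style.haveILetI false

namespace Cfsg.Agent.Fus.FundPair

open Subgroup Cfsg.Agent.Grp Cfsg.Agent.Invol
open scoped commutatorElement

universe u

variable {G : Type u} [Group G]

/-- The centralizer of an element. -/
abbrev Cz (v : G) : Subgroup G := centralizer ({v} : Set G)

/-- The core of the centralizer of an element. -/
abbrev Oz (v : G) : Subgroup G := Cfsg.centralizerPPrimeCore 2 v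

/-- The image of a subgroup in the centralizer of `v` modulo its core. -/
abbrev img (v : G) (J : Subgroup G) : Subgroup (↥(Cz v) ⧸ Cfsg.pPrimeCore 2 ↥(Cz v)) :=
  (J.subgroupOf (Cz v)).map (QuotientGroup.mk' _)

/-- `v` is the only involution of the 2-component `J` of its centralizer. -/
structure Fund (v : G) (J : Subgroup G) : Prop where
  ord : orderOf v = 2
  mem : v ∈ J
  uniq : ∀ t ∈ J, orderOf t = 2 → t = v
  comp : Cfsg.IsPComponentOf 2 J (Cz v)

/-- Equal modulo the core of the centralizer of `v`. -/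
def Cong (v a b : G) : Prop := a⁻¹ * b ∈ Oz v

/-- `c` centralizes `J` modulo the core of the centralizer of `v`. -/
def Cent (v c : G) (J : Subgroup G) : Prop := ∀ j ∈ J, ⁅c, j⁆ ∈ Oz v

variable {v a b c : G} {J J' : Subgroup G}

theorem mem_Cz {x : G} : x ∈ Cz v ↔ x * v = v * x := mem_centralizer_singleton_iff

theorem mem_Cz' {x : G} : x ∈ Cz v ↔ Commute x v := mem_centralizer_singleton_iff

theorem Oz_le : Oz v ≤ Cz v := map_subtype_le _

theorem mem_Oz_iff {x : G} (hx : x ∈ Cz v) :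
    x ∈ Oz v ↔ (⟨x, hx⟩ : ↥(Cz v)) ∈ Cfsg.pPrimeCore 2 ↥(Cz v) := by
  constructor
  · rintro ⟨y, hy, e⟩
    rwa [← show y = ⟨x, hx⟩ from Subtype.ext e]
  · exact fun h => ⟨_, h, rfl⟩

theorem conj_mem_Oz {o : G} (ho : o ∈ Oz v) {g : G} (hg : g ∈ Cz v) : g * o * g⁻¹ ∈ Oz v := by
  obtain ⟨y, hy, rfl⟩ := ho
  exact ⟨⟨g, hg⟩ * y * ⟨g, hg⟩⁻¹, pPrimeCore_isNormal.conj_mem y hy _, rfl⟩

theorem mk_eq_iff (ha : a ∈ Cz v) (hb : b ∈ Cz v) :
    QuotientGroup.mk' (Cfsg.pPrimeCore 2 ↥(Cz v)) ⟨a, ha⟩ = QuotientGroup.mk' _ ⟨b, hb⟩ ↔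
      Cong v a b := by
  rw [Cong, mem_Oz_iff (mul_mem (inv_mem ha) hb)]
  exact QuotientGroup.eq

theorem mem_img {x : G} (hx : x ∈ J) (hxv : x ∈ Cz v) :
    QuotientGroup.mk' (Cfsg.pPrimeCore 2 ↥(Cz v)) ⟨x, hxv⟩ ∈ img v J :=
  Subgroup.mem_map_of_mem _ (show (⟨x, hxv⟩ : ↥(Cz v)) ∈ J.subgroupOf _ from hx)

theorem isPGroup_zpowers_sub {H : Subgroup G} {x : G} (hx : x ∈ H) (h : IsPGroup 2 (zpowers x)) :
    IsPGroup 2 (zpowers (⟨x, hx⟩ : ↥H)) :=
  (isPGroup_zpowers_coe (⟨x, hx⟩ : ↥H)).2 h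

theorem isPGroup_of_mem {P : Subgroup G} (hP : IsPGroup 2 P) {x : G} (hx : x ∈ P) :
    IsPGroup 2 (zpowers x) :=
  hP.to_le (zpowers_le.2 hx)

variable [Finite G]

theorem odd_Oz : Odd (Nat.card (Oz v)) := by
  rw [Oz, Cfsg.centralizerPPrimeCore, card_map_of_injective (Cz v).subtype_injective]
  exact Nat.coprime_two_right.1 pPrimeCore_coprime

theorem eq_one_of_mem_Oz {x : G} (hx : x ∈ Oz v) (h2 : IsPGroup 2 (zpowers x)) : x = 1 := by
  obtain ⟨k, hk⟩ := IsPGroup.iff_card.1 h2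
  rw [Nat.card_zpowers] at hk
  refine orderOf_eq_one_iff.1 (Nat.eq_one_of_dvd_coprimes ?_ (Subgroup.orderOf_dvd_natCard _ hx)
    hk.dvd)
  exact (Nat.coprime_two_right.2 odd_Oz).pow_right k

/-- Congruent elements of a 2-group are equal. -/
theorem eq_of_cong {P : Subgroup G} (hP : IsPGroup 2 P) (ha : a ∈ P) (hb : b ∈ P)
    (h : Cong v a b) : a = b :=
  inv_mul_eq_one.1 (eq_one_of_mem_Oz h (isPGroup_of_mem hP (mul_mem (inv_mem ha) hb)))

theorem Fund.le (h : Fund v J) : J ≤ Cz v := h.comp.1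

theorem Fund.perfect (h : Fund v J) : ⁅J, J⁆ = J := pComponentOf_perfect h.comp

theorem Fund.img_comp (h : Fund v J) : Cfsg.IsComponent (img v J) := h.comp.2.2.1

theorem Fund.commute_v (h : Fund v J) {x : G} (hx : x ∈ J) : Commute x v := mem_Cz'.1 (h.le hx)

theorem Fund.eq_pRes (h : Fund v J) :
    J.subgroupOf (Cz v) = pRes 2 ((img v J).comap (QuotientGroup.mk' _)) := by
  haveI : Fact (Nat.Prime 2) := ⟨Nat.prime_two⟩
  exact IsPComponent.eq_pRes h.comp.2

/-- A 2-element with image in the component lies in it. -/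
theorem Fund.mem_of_img (h : Fund v J) {x : G} (hx : x ∈ Cz v) (h2 : IsPGroup 2 (zpowers x))
    (hi : QuotientGroup.mk' (Cfsg.pPrimeCore 2 ↥(Cz v)) ⟨x, hx⟩ ∈ img v J) : x ∈ J := by
  have e := mem_pRes (P := (img v J).comap (QuotientGroup.mk' _)) hi (isPGroup_zpowers_sub hx h2)
  rw [← h.eq_pRes] at e
  exact e

/-- A 2-element congruent to an element of the component lies in it. -/
theorem Fund.mem_of_cong (h : Fund v J) {x j : G} (hj : j ∈ J) (hx : x ∈ Cz v)
    (h2 : IsPGroup 2 (zpowers x)) (hc : Cong v j x) : x ∈ J := by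
  refine h.mem_of_img hx h2 ?_
  rw [← (mk_eq_iff (h.le hj) hx).2 hc]
  exact mem_img hj (h.le hj)

theorem map_Cz (e : G ≃* G) (v : G) : (Cz v).map e.toMonoidHom = Cz (e v) := by
  ext x
  constructor
  · rintro ⟨y, hy, rfl⟩
    rw [mem_Cz]
    show e y * e v = e v * e y
    rw [← map_mul, ← map_mul, mem_Cz.1 hy]
  · intro hx
    refine ⟨e.symm x, mem_Cz.2 (e.injective ?_), e.apply_symm_apply x⟩
    rw [map_mul, map_mul, e.apply_symm_apply]
    exact mem_Cz.1 hx

theorem Fund.map (h : Fund v J) (e : G ≃* G) : Fund (e v) (J.map e.toMonoidHom) where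
  ord := by rw [MulEquiv.orderOf_eq]; exact h.ord
  mem := mem_map_of_mem _ h.mem
  uniq := by
    rintro _ ⟨t, ht, rfl⟩ h2
    rw [h.uniq t ht (by rwa [← MulEquiv.orderOf_eq e])]
    rfl
  comp := map_Cz e v ▸ isPComponentOf_map e h.comp

theorem mem_map_conj {K : Subgroup G} {g x : G} :
    x ∈ K.map (MulAut.conj g).toMonoidHom ↔ g⁻¹ * x * g ∈ K := by
  constructor
  · rintro ⟨k, hk, rfl⟩
    show g⁻¹ * (g * k * g⁻¹) * g ∈ K
    rwa [show g⁻¹ * (g * k * g⁻¹) * g = k by group]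
  · intro hx
    exact ⟨g⁻¹ * x * g, hx, show g * (g⁻¹ * x * g) * g⁻¹ = x by group⟩

theorem Fund.conj (h : Fund v J) (g : G) :
    Fund (g * v * g⁻¹) (J.map (MulAut.conj g).toMonoidHom) :=
  h.map (MulAut.conj g)

theorem conj_eq_self_iff {K : Subgroup G} {g : G} :
    K.map (MulAut.conj g).toMonoidHom = K ↔ g ∈ normalizer (K : Set G) := by
  rw [map_conj_eq_smul, mem_normalizer_iff_smul]

theorem conj_conj (K : Subgroup G) (a b : G) :
    (K.map (MulAut.conj a).toMonoidHom).map (MulAut.conj b).toMonoidHom =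
      K.map (MulAut.conj (b * a)).toMonoidHom := by
  rw [map_map]
  congr 1
  ext x
  simp [mul_assoc]

theorem conj_one (K : Subgroup G) : K.map (MulAut.conj (1 : G)).toMonoidHom = K := by
  rw [conj_eq_self_iff]; exact one_mem _

/-- Conjugates by elements of the centralizer are again components. -/
theorem Fund.conj_mem (h : Fund v J) {g : G} (hg : g ∈ Cz v) :
    Fund v (J.map (MulAut.conj g).toMonoidHom) := by
  have := h.conj g
  rwa [mem_Cz.1 hg, mul_inv_cancel_right] at this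

theorem img_inj (h : Fund v J) (h' : Fund v J') (e : img v J = img v J') : J = J' := by
  have h1 : J.subgroupOf (Cz v) = J'.subgroupOf (Cz v) := by rw [h.eq_pRes, h'.eq_pRes, e]
  have := congrArg (Subgroup.map (Cz v).subtype) h1
  rwa [subgroupOf_map_subtype, subgroupOf_map_subtype, inf_eq_left.2 h.le,
    inf_eq_left.2 h'.le] at this

/-- Distinct components commute modulo the core. -/
theorem comm_mem_Oz (h : Fund v J) (h' : Fund v J') (hne : J ≠ J') {x y : G} (hx : x ∈ J)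
    (hy : y ∈ J') : ⁅x, y⁆ ∈ Oz v := by
  have hc := mem_centralizer_iff.1 (IsComponent.commute h.img_comp h'.img_comp
    (fun e => hne (img_inj h h' e)) (mem_img hx (h.le hx))) _ (mem_img hy (h'.le hy))
  rw [mem_Oz_iff (by rw [commutatorElement_def]; exact mul_mem (mul_mem (mul_mem (h.le hx) (h'.le hy))
    (inv_mem (h.le hx))) (inv_mem (h'.le hy)))]
  refine (QuotientGroup.eq_one_iff _).1 ?_
  show QuotientGroup.mk' (Cfsg.pPrimeCore 2 ↥(Cz v))
    ⁅(⟨x, h.le hx⟩ : ↥(Cz v)), ⟨y, h'.le hy⟩⁆ = 1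
  rw [map_commutatorElement, commutatorElement_eq_one_iff_mul_comm]
  exact hc.symm

/-- Inside a 2-group distinct components commute. -/
theorem commute_in (h : Fund v J) (h' : Fund v J') (hne : J ≠ J') {P : Subgroup G}
    (hP : IsPGroup 2 P) {x y : G} (hx : x ∈ J) (hy : y ∈ J') (hxP : x ∈ P) (hyP : y ∈ P) :
    Commute x y := by
  refine commutatorElement_eq_one_iff_mul_comm.1 (eq_one_of_mem_Oz (comm_mem_Oz h h' hne hx hy)
    (isPGroup_of_mem hP ?_))
  rw [commutatorElement_def]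
  exact mul_mem (mul_mem (mul_mem hxP hyP) (inv_mem hxP)) (inv_mem hyP)

/-- Components normalize one another. -/
theorem Fund.normalized (h : Fund v J) (h' : Fund v J') : J' ≤ normalizer (J : Set G) := by
  haveI : Fact (Nat.Prime 2) := ⟨Nat.prime_two⟩
  intro x hx
  have h1 : (⟨x, h'.le hx⟩ : ↥(Cz v)) ∈ normalizer (J.subgroupOf (Cz v) : Set ↥(Cz v)) :=
    pLayer_le_normalizer h.comp.2 ((le_sSup h'.comp.2 : _ ≤ Cfsg.pLayer 2 _) hx)
  have h2 : x ∈ (normalizer (J.subgroupOf (Cz v) : Set ↥(Cz v))).map (Cz v).subtype := ⟨_, h1, rfl⟩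
  have h3 := Subgroup.le_normalizer_map (Cz v).subtype h2
  rwa [subgroupOf_map_subtype, inf_eq_left.2 h.le] at h3

/-- A Sylow subgroup of the centralizer meets the component in a Sylow subgroup. -/
theorem Fund.exists_sylow (h : Fund v J) {P : Subgroup G} (hPC : P ≤ Cz v) (hP : IsPGroup 2 P)
    (hmax : ∀ Q : Subgroup G, Q ≤ Cz v → IsPGroup 2 Q → P ≤ Q → Q = P) :
    ∃ S : Sylow 2 ↥J, (S : Subgroup ↥J) = P.subgroupOf J := by
  haveI : Fact (Nat.Prime 2) := ⟨Nat.prime_two⟩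
  obtain ⟨T, hT⟩ := (hP.of_injective (subgroupOfEquivOfLe hPC).toMonoidHom
    (subgroupOfEquivOfLe hPC).injective : IsPGroup 2 (P.subgroupOf (Cz v))).exists_le_sylow
  have hTP : (T : Subgroup ↥(Cz v)).map (Cz v).subtype = P := by
    refine hmax _ (map_subtype_le _) (T.isPGroup'.map _) ?_
    intro x hx
    exact ⟨⟨x, hPC hx⟩, hT hx, rfl⟩
  have hd : ¬ 2 ∣ (P.subgroupOf J).index := by
    have h1 := not_dvd_relIndex_sylow T h.comp.2.1
    rw [← hTP]
    have e : ((T : Subgroup ↥(Cz v)).map (Cz v).subtype).relIndex J =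
        (T : Subgroup ↥(Cz v)).relIndex (J.subgroupOf (Cz v)) := by
      rw [← relIndex_map_map_of_injective _ _ (Cz v).subtype_injective, subgroupOf_map_subtype,
        inf_eq_left.2 h.le]
    rw [← Subgroup.relIndex, e]
    exact h1
  have hp : IsPGroup 2 (P.subgroupOf J) :=
    hP.comap_of_injective J.subtype J.subtype_injective
  exact ⟨hp.toSylow hd, rfl⟩

/-- A maximal 2-subgroup of a centralizer over a given one. -/
theorem exists_max (v : G) {A : Subgroup G} (hA : IsPGroup 2 A) (hAC : A ≤ Cz v) :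
    ∃ P : Subgroup G, A ≤ P ∧ P ≤ Cz v ∧ IsPGroup 2 P ∧
      ∀ Q : Subgroup G, Q ≤ Cz v → IsPGroup 2 Q → P ≤ Q → Q = P := by
  obtain ⟨P, hAP, hmax⟩ :=
    Set.Finite.exists_le_maximal (Set.toFinite {Q : Subgroup G | Q ≤ Cz v ∧ IsPGroup 2 Q})
      (show A ∈ {Q : Subgroup G | Q ≤ Cz v ∧ IsPGroup 2 Q} from ⟨hAC, hA⟩)
  exact ⟨P, hAP, hmax.1.1, hmax.1.2, fun Q h1 h2 h3 => le_antisymm (hmax.2 ⟨h1, h2⟩ h3) h3⟩

/-- A 2-element of a component centralized modulo the core by a 2-group lifts to an element of the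
component centralized by it. -/
theorem Fund.exists_lift (h : Fund v J) {A : Subgroup G} (hA : IsPGroup 2 A) (hAC : A ≤ Cz v)
    {r : G} (hr : r ∈ J) (h2 : IsPGroup 2 (zpowers r)) (hc : ∀ a ∈ A, ⁅r, a⁆ ∈ Oz v) :
    ∃ s ∈ J, IsPGroup 2 (zpowers s) ∧ Cong v r s ∧ ∀ a ∈ A, Commute a s := by
  haveI : Fact (Nat.Prime 2) := ⟨Nat.prime_two⟩
  set q := QuotientGroup.mk' (Cfsg.pPrimeCore 2 ↥(Cz v)) with hq
  set A' := A.subgroupOf (Cz v) with hA'
  have hA'2 : IsPGroup 2 A' := hA.comap_of_injective _ (Cz v).subtype_injective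
  have hz : q ⟨r, h.le hr⟩ ∈ centralizer ((A'.map q : Subgroup _) : Set _) := by
    rw [mem_centralizer_iff]
    rintro _ ⟨a, ha, rfl⟩
    have hh := hc a ha
    rw [commutatorElement_def] at hh
    have hm : (⟨r * a * r⁻¹ * (a : G)⁻¹, Oz_le hh⟩ : ↥(Cz v)) ∈ Cfsg.pPrimeCore 2 ↥(Cz v) :=
      (mem_Oz_iff _).1 hh
    have h1 : q (⟨r, h.le hr⟩ * a * ⟨r, h.le hr⟩⁻¹ * a⁻¹) = 1 :=
      (QuotientGroup.eq_one_iff _).2 (show _ ∈ Cfsg.pPrimeCore 2 ↥(Cz v) from hm)
    rw [map_mul, map_mul, map_mul, map_inv, map_inv, mul_inv_eq_one, mul_inv_eq_iff_eq_mul] at h1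
    exact h1.symm
  rw [← map_centralizer_pGroup hA'2] at hz
  obtain ⟨s, hs, hse⟩ := hz
  have hp : IsPGroup 2 (zpowers (q s)) := by
    rw [hse]
    have := (isPGroup_zpowers_sub (h.le hr) h2).map q
    rwa [MonoidHom.map_zpowers] at this
  obtain ⟨t, ht, ht2, hte⟩ := exists_pElement_lift q hp
  have htg : IsPGroup 2 (zpowers (t : G)) := (isPGroup_zpowers_coe t).1 ht2
  refine ⟨t, h.mem_of_img t.2 htg ?_, htg, ?_, fun a ha => ?_⟩
  · show q t ∈ img v J
    rw [hte, hse]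
    exact mem_img hr (h.le hr)
  · refine (mk_eq_iff (h.le hr) t.2).1 ?_
    show q ⟨r, h.le hr⟩ = q t
    rw [hte, hse]
  · have ht' : t ∈ centralizer (A' : Set ↥(Cz v)) := zpowers_le.2 hs ht
    exact congrArg Subtype.val (mem_centralizer_iff.1 ht' ⟨a, hAC ha⟩ ha)

end Cfsg.Agent.Fus.FundPair
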