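import Cfsg.Agent.Lib.Fus.FundPair.Inner

/-!
The diagonal 2-component over a pair of components interchanged by an involution.
-/

set_option autoImplicit false
set_option linter.unusedSectionVars false
set_option linter.style.haveILetI false

namespace Cfsg.Agent.Fus.FundPair

open Subgroup Cfsg.Agent.Grp Cfsg.Agent.Invol
open scoped commutatorElement

universe u

variable {G : Type u} [Group G] [Finite G] {v : G} {J : Subgroup G}

/-- A 2-element of a component of the quotient lifts into the component. -/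
theorem Fund.lift_two (h : Fund v J) {z : ↥(Cz v) ⧸ Cfsg.pPrimeCore 2 ↥(Cz v)} (hz : z ∈ img v J)
    (h2 : IsPGroup 2 (zpowers z)) :
    ∃ (x : G) (hx : x ∈ J), IsPGroup 2 (zpowers x) ∧ qz (h.le hx) = z := by
  haveI : Fact (Nat.Prime 2) := ⟨Nat.prime_two⟩
  obtain ⟨y, rfl⟩ := QuotientGroup.mk'_surjective _ z
  obtain ⟨t, -, ht2, hte⟩ := exists_pElement_lift (QuotientGroup.mk' (Cfsg.pPrimeCore 2 ↥(Cz v))) h2
  have htg : IsPGroup 2 (zpowers (t : G)) := (isPGroup_zpowers_coe t).1 ht2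
  have htJ : (t : G) ∈ J := h.mem_of_img t.2 htg (by
    show QuotientGroup.mk' _ t ∈ img v J
    rw [hte]; exact hz)
  exact ⟨t, htJ, htg, hte⟩

/-- The centre of the image of a component. -/
theorem Fund.center_img (h : Fund v J) {z : ↥(Cz v) ⧸ Cfsg.pPrimeCore 2 ↥(Cz v)} (hz : z ∈ img v J)
    (hc : z ∈ centralizer (img v J : Set _)) : z = 1 ∨ z = qz (h.le h.mem) := by
  haveI : Fact (Nat.Prime 2) := ⟨Nat.prime_two⟩
  set L := img v J
  obtain ⟨k, m, hm, hkm⟩ := Nat.exists_eq_pow_mul_and_not_dvd (orderOf_pos z).ne' 2 (by norm_num)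
  have hmem : ∀ i : ℕ, z ^ i ∈ L ∧ z ^ i ∈ centralizer (L : Set _) := fun i =>
    ⟨pow_mem hz i, pow_mem hc i⟩
  -- the odd part is trivial
  have hodd : z ^ (2 ^ k) = 1 := by
    set N := zpowers (z ^ (2 ^ k))
    have hle : N ≤ L := zpowers_le.2 (hmem _).1
    have hNs : N.IsSubnormal := by
      refine IsSubnormal.step N L hle h.img_comp.1 ⟨fun n hn g => ?_⟩
      have hn' : (n : ↥(Cz v) ⧸ Cfsg.pPrimeCore 2 ↥(Cz v)) ∈ centralizer (L : Set _) :=
        zpowers_le.2 (hmem _).2 hn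
      have e : g * n * g⁻¹ = n := Subtype.ext (by
        show (g : ↥(Cz v) ⧸ Cfsg.pPrimeCore 2 ↥(Cz v)) * n * g⁻¹ = n
        rw [mem_centralizer_iff.1 hn' g g.2, mul_assoc]
        exact (congrArg ((n : ↥(Cz v) ⧸ Cfsg.pPrimeCore 2 ↥(Cz v)) * ·) (mul_inv_cancel _)).trans (mul_one _))
      rw [e]; exact hn
    have := eq_bot_of_coprime_of_subnormal (p := 2) hNs ?_ hle
    · exact zpowers_eq_bot.1 this
    · rw [Nat.card_zpowers, orderOf_pow_of_dvd (by positivity) (Dvd.intro m hkm.symm), hkm,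
        Nat.mul_div_cancel_left _ (by positivity)]
      exact (Nat.prime_two.coprime_iff_not_dvd.2 hm).symm
  obtain ⟨x, hx, hx2, hxz⟩ := h.lift_two hz (by
    obtain ⟨i, -, hi⟩ := (Nat.dvd_prime_pow Nat.prime_two).1 (orderOf_dvd_of_pow_eq_one hodd)
    exact Invol.isPGroup_zpowers hi)
  have hcx : Cent v x J := (cent_iff h (h.le hx)).2 (hxz ▸ hc)
  rcases h.two_of_cent hx hx2 hcx with rfl | rfl
  · exact Or.inl (hxz.symm.trans (map_one _))
  · exact Or.inr hxz.symm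

/-- The diagonal component. -/
theorem exists_diag (h : Fund v J) {c : G} (hc2 : orderOf c = 2) (hcv : c ∈ Cz v)
    (hne : c ∉ normalizer (J : Set G)) :
    ∃ D : Subgroup G, Cfsg.IsPComponentOf 2 D (Cz v ⊓ Cz c) ∧ sz D = sz J ∧
      (∀ x ∈ D, IsPGroup 2 (zpowers x) →
        (∀ d ∈ D, ⁅x, d⁆ ∈ (Cfsg.pPrimeCore 2 ↥(Cz v ⊓ Cz c : Subgroup G)).map
          (Cz v ⊓ Cz c : Subgroup G).subtype) → x = 1) ∧
      ∀ g ∈ J, ∀ x ∈ Cz v ⊓ Cz c, IsPGroup 2 (zpowers x) → Cong v (g * (c * g * c⁻¹)) x → x ∈ D := by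
  haveI : Fact (Nat.Prime 2) := ⟨Nat.prime_two⟩
  set Qv := ↥(Cz v) ⧸ Cfsg.pPrimeCore 2 ↥(Cz v)
  set q := QuotientGroup.mk' (Cfsg.pPrimeCore 2 ↥(Cz v)) with hq
  set L := img v J with hL
  have hcc : c * c = 1 := by rw [← pow_two, ← hc2, pow_orderOf_eq_one]
  set cb : Qv := qz hcv with hcb
  have hcb2 : cb * cb = 1 := by
    rw [hcb, ← map_mul, show (⟨c, hcv⟩ * ⟨c, hcv⟩ : ↥(Cz v)) = 1 from Subtype.ext hcc, map_one]
  have hcbi : cb⁻¹ = cb := inv_eq_of_mul_eq_one_left hcb2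
  have h' := h.conj_mem hcv
  set J' := J.map (MulAut.conj c).toMonoidHom
  have hJJ : J ≠ J' := fun e => hne (conj_eq_self_iff.1 e.symm)
  set L' := img v J' with hL'
  have hL'mem : ∀ d ∈ L, cb * d * cb⁻¹ ∈ L' := by
    rintro _ ⟨j, hj, rfl⟩
    refine ⟨⟨c, hcv⟩ * j * ⟨c, hcv⟩⁻¹, ⟨(j : G), hj, rfl⟩, rfl⟩
  have hL'inv : ∀ d ∈ L', cb * d * cb⁻¹ ∈ L := by
    rintro _ ⟨j, ⟨k, hk, hkj⟩, rfl⟩
    refine ⟨⟨c, hcv⟩ * j * ⟨c, hcv⟩⁻¹, ?_, rfl⟩
    show c * (j : G) * c⁻¹ ∈ J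
    have : (j : G) = c * k * c⁻¹ := hkj.symm
    rw [this, inv_eq_of_mul_eq_one_left hcc,
      show c * (c * k * c) * c = c * c * k * (c * c) by group, hcc, one_mul, mul_one]
    exact hk
  have hcom : ∀ d ∈ L, ∀ d' ∈ L', Commute d d' := fun d hd d' hd' =>
    (mem_centralizer_iff.1 (IsComponent.commute h.img_comp h'.img_comp
      (fun e => hJJ (img_inj h h' e)) hd) d' hd').symm
  let φ : ↥L →* Qv := MonoidHom.mk' (fun d => (d : Qv) * (cb * d * cb⁻¹)) (by
    intro a b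
    have hc1 := hcom b b.2 (cb * a * cb⁻¹) (hL'mem a a.2)
    show (a : Qv) * b * (cb * (a * b) * cb⁻¹) = a * (cb * a * cb⁻¹) * (b * (cb * b * cb⁻¹))
    rw [show cb * ((a : Qv) * b) * cb⁻¹ = cb * a * cb⁻¹ * (cb * b * cb⁻¹) by group]
    calc (a : Qv) * b * (cb * a * cb⁻¹ * (cb * b * cb⁻¹))
        = a * ((b : Qv) * (cb * a * cb⁻¹)) * (cb * b * cb⁻¹) := by group
      _ = _ := by rw [hc1.eq]; group)
  set Δ := φ.range with hΔ
  have hker : φ.ker = Subgroup.center ↥L := by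
    ext d
    constructor
    · intro hd
      have e : cb * (d : Qv) * cb⁻¹ = (d : Qv)⁻¹ := eq_inv_of_mul_eq_one_right hd
      refine mem_center_iff.2 fun g => Subtype.ext ?_
      have := hcom g g.2 _ (hL'mem d d.2)
      rw [e] at this
      exact (inv_inv (d : Qv) ▸ this.inv_right).eq
    · intro hd
      rcases h.center_img d.2 (mem_centralizer_iff.2 fun g hg =>
        congrArg Subtype.val (mem_center_iff.1 hd ⟨g, hg⟩)) with e | e
      · show (d : Qv) * (cb * d * cb⁻¹) = 1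
        rw [e, mul_one, mul_inv_cancel, mul_one]
      · show (d : Qv) * (cb * d * cb⁻¹) = 1
        have hz : Commute cb (qz (h.le h.mem)) :=
          (show Commute (⟨c, hcv⟩ : ↥(Cz v)) ⟨v, h.le h.mem⟩ from Subtype.ext (mem_Cz.1 hcv)).map q
        rw [e, hz.eq, mul_inv_cancel_right, ← map_mul]
        rw [show (⟨v, h.le h.mem⟩ * ⟨v, h.le h.mem⟩ : ↥(Cz v)) = 1 from
          Subtype.ext (by show v * v = 1; rw [← pow_two, ← h.ord, pow_orderOf_eq_one]), map_one]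
  let ε : (↥L ⧸ Subgroup.center ↥L) ≃* ↥Δ :=
    (QuotientGroup.quotientMulEquivOfEq hker.symm).trans (QuotientGroup.quotientKerEquivRange φ)
  haveI hsimp : IsSimpleGroup (↥L ⧸ Subgroup.center ↥L) := h.img_comp.2.2
  haveI : Nontrivial ↥Δ := ε.symm.toEquiv.nontrivial
  have hΔsimp : IsSimpleGroup ↥Δ := IsSimpleGroup.isSimpleGroup_of_surjective ε.toMonoidHom ε.surjective
  haveI := hΔsimp
  have hΔq : Cfsg.IsQuasisimple ↥Δ :=
    IsQuasisimple.of_surjective h.img_comp.2 (f := φ.rangeRestrict) φ.rangeRestrict_surjective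
  have hΔcen : Subgroup.center ↥Δ = ⊥ :=
    ((inferInstance : (Subgroup.center ↥Δ).Normal).eq_bot_or_eq_top).resolve_right
      (IsQuasisimple.center_ne_top hΔq)
  -- `Δ` is centralized by the involution
  set Cc := centralizer (((zpowers (⟨c, hcv⟩ : ↥(Cz v))).map q : Subgroup Qv) : Set Qv) with hCc
  have hCc' : ∀ x : Qv, x ∈ Cc ↔ cb * x * cb⁻¹ = x := fun x => by
    rw [hCc, MonoidHom.map_zpowers, zpowers_eq_closure, centralizer_closure,
      mem_centralizer_singleton_iff, mul_inv_eq_iff_eq_mul]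
    exact eq_comm
  have hΔC : Δ ≤ Cc := by
    rintro _ ⟨d, rfl⟩
    rw [hCc']
    show cb * ((d : Qv) * (cb * d * cb⁻¹)) * cb⁻¹ = (d : Qv) * (cb * d * cb⁻¹)
    rw [show cb * ((d : Qv) * (cb * d * cb⁻¹)) * cb⁻¹ =
      (cb * d * cb⁻¹) * (cb * cb * d * (cb * cb)⁻¹) by group, hcb2, one_mul, inv_one, mul_one]
    exact (hcom d d.2 _ (hL'mem d d.2)).symm.eq
  have hW : ((L ⊔ L').subgroupOf Cc).IsSubnormal := by
    haveI := ComponentSplit.layer_normal (G := Qv)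
    refine IsSubnormal.subgroupOf (IsSubnormal.step _ (Cfsg.layer Qv)
      (sup_le (IsComponent.le_layer h.img_comp) (IsComponent.le_layer h'.img_comp))
      (inferInstance : (Cfsg.layer Qv).Normal).isSubnormal ?_)
    rw [normal_subgroupOf_iff_le_normalizer (sup_le (IsComponent.le_layer h.img_comp)
      (IsComponent.le_layer h'.img_comp))]
    exact (le_inf (ComponentSplit.layer_le_normalizer h.img_comp)
      (ComponentSplit.layer_le_normalizer h'.img_comp)).trans (normalizer_inf_normalizer_le_normalizer_sup _ _)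
  have hΔle : Δ ≤ L ⊔ L' := by
    rintro _ ⟨d, rfl⟩
    exact mul_mem (mem_sup_left d.2) (mem_sup_right (hL'mem d d.2))
  have hLn : L' ≤ normalizer (L : Set Qv) :=
    (fun d hd => centralizer_le_normalizer _ (mem_centralizer_iff.2 fun g hg => (hcom g hg d hd).eq))
  have hΔcomp : Cfsg.IsComponent (Δ.subgroupOf Cc) := by
    refine ⟨IsSubnormal.step _ ((L ⊔ L').subgroupOf Cc) (fun x hx => hΔle hx) hW ?_,
      (isQuasisimple_subgroupOf_iff hΔC).2 hΔq⟩
    rw [normal_subgroupOf_iff_le_normalizer (fun (x : ↥Cc) (hx : x ∈ Δ.subgroupOf Cc) =>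
      (hΔle hx : (x : Qv) ∈ L ⊔ L'))]
    intro w hw
    have key : ∀ w : Qv, w ∈ L ⊔ L' → w ∈ Cc → ∀ x ∈ Δ, w * x * w⁻¹ ∈ Δ := by
      intro w hw hwC x hx
      rw [← SetLike.mem_coe, coe_mul_of_right_le_normalizer_left L L' hLn] at hw
      obtain ⟨a, ha, b, hb, rfl⟩ := hw
      obtain ⟨d, rfl⟩ := hx
      have ha' := hL'mem a ha
      have hb' := hL'inv b hb
      have hfix := (hCc' _).1 hwC
      have hfix' : (cb * b * cb⁻¹) * (cb * a * cb⁻¹) = a * b := by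
        rw [(hcom _ hb' _ ha').eq, show cb * a * cb⁻¹ * (cb * b * cb⁻¹) = cb * (a * b) * cb⁻¹ by group]
        exact hfix
      set a' := cb * a * cb⁻¹
      have hz : a⁻¹ * (cb * b * cb⁻¹) = b * a'⁻¹ := by
        calc a⁻¹ * (cb * b * cb⁻¹) = a⁻¹ * ((cb * b * cb⁻¹) * a') * a'⁻¹ := by group
          _ = _ := by rw [hfix']; group
      have hzL : b * a'⁻¹ ∈ L := hz ▸ mul_mem (inv_mem ha) hb'
      refine ⟨⟨a * d * a⁻¹, mul_mem (mul_mem ha d.2) (inv_mem ha)⟩, ?_⟩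
      show a * (d : Qv) * a⁻¹ * (cb * (a * d * a⁻¹) * cb⁻¹) =
        a * b * ((d : Qv) * (cb * d * cb⁻¹)) * (a * b)⁻¹
      set d' := cb * (d : Qv) * cb⁻¹
      have hd' : d' ∈ L' := hL'mem d d.2
      have e1 : b * d' * b⁻¹ = a' * d' * a'⁻¹ := by
        have hm : a' * d' * a'⁻¹ ∈ L' := mul_mem (mul_mem ha' hd') (inv_mem ha')
        calc b * d' * b⁻¹ = (b * a'⁻¹) * (a' * d' * a'⁻¹) * (b * a'⁻¹)⁻¹ := by group
          _ = _ := by rw [(hcom _ hzL _ hm).eq, mul_inv_cancel_right]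
      calc a * (d : Qv) * a⁻¹ * (cb * (a * d * a⁻¹) * cb⁻¹)
          = a * (d : Qv) * a⁻¹ * (a' * d' * a'⁻¹) := by simp only [a', d']; group
        _ = a * (d : Qv) * (a⁻¹ * (b * d' * b⁻¹)) := by rw [e1]; group
        _ = a * (d : Qv) * ((b * d' * b⁻¹) * a⁻¹) := by
            rw [(hcom _ (inv_mem ha) _ (mul_mem (mul_mem hb hd') (inv_mem hb))).eq]
        _ = a * ((d : Qv) * b) * d' * b⁻¹ * a⁻¹ := by group
        _ = a * (b * (d : Qv)) * d' * b⁻¹ * a⁻¹ := by rw [(hcom _ d.2 _ hb).eq]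
        _ = _ := by group
    rw [mem_normalizer_iff]
    refine fun x => ⟨fun hx => key w hw w.2 x hx, fun hx => ?_⟩
    have := key (w : Qv)⁻¹ (inv_mem hw) (inv_mem w.2) _ hx
    show (x : Qv) ∈ Δ
    rwa [show ((w : Qv))⁻¹ * Cc.subtype (w * x * w⁻¹) * ((w : Qv))⁻¹⁻¹ = x by
      simp only [map_mul, map_inv, Subgroup.subtype_apply]; group] at this
  have heven : 2 ∣ Nat.card Δ := by
    obtain ⟨Q, -, hQ⟩ := exists_sylJ_of_pGroup (bot_le : (⊥ : Subgroup G) ≤ J) IsPGroup.of_bot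
    obtain ⟨r, hr⟩ := h.quat hQ
    obtain ⟨x, hx, hxr⟩ := hr.ex
    have hxv : x * x = v := ((hr.out x hx).resolve_left hxr).2
    set d : ↥L := ⟨qz (h.le (hQ.1 hx)), mem_img (hQ.1 hx) _⟩
    have hd1 : φ.rangeRestrict d ≠ 1 := by
      intro e
      have e' : d ∈ φ.ker := congrArg Subtype.val e
      rw [hker] at e'
      have hc' : qz (h.le (hQ.1 hx)) ∈ centralizer (L : Set _) := mem_centralizer_iff.2 fun g hg =>
        congrArg Subtype.val (mem_center_iff.1 e' ⟨g, hg⟩)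
      have hv1 : v ≠ 1 := (orderOf_two_iff.1 h.ord).2
      rcases h.two_of_cent (hQ.1 hx) (isPGroup_of_mem hQ.2.1 hx) ((cent_iff h _).2 hc') with h1 | h1
      · exact hv1 (by rw [← hxv, h1, one_mul])
      · exact hv1 (by rw [← hxv, h1, ← pow_two, ← h.ord, pow_orderOf_eq_one])
    have hd2 : φ.rangeRestrict d ^ 2 = 1 := by
      refine Subtype.ext ?_
      show φ d ^ 2 = 1
      rw [← map_pow]
      refine MonoidHom.mem_ker.1 ?_
      rw [hker, mem_center_iff]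
      intro g
      refine Subtype.ext ?_
      have : ((d ^ 2 : ↥L) : Qv) = qz (h.le h.mem) := by
        rw [SubgroupClass.coe_pow, pow_two, ← map_mul]
        exact congrArg q (Subtype.ext hxv)
      show (g : Qv) * ((d ^ 2 : ↥L) : Qv) = ((d ^ 2 : ↥L) : Qv) * g
      rw [this]
      obtain ⟨w, hw, hwg⟩ := g.2
      rw [← hwg, ← map_mul, ← map_mul]
      exact congrArg q (Subtype.ext (h.commute_v hw).eq)
    have h7 : orderOf (φ.rangeRestrict d) ∣ Nat.card ↥Δ := _root_.orderOf_dvd_natCard _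
    rwa [orderOf_eq_prime hd2 hd1] at h7
  have hcore : Cfsg.pPrimeCore 2 ↥Δ = ⊥ := by
    refine ((pPrimeCore_isNormal (p := 2) (G := ↥Δ)).eq_bot_or_eq_top).resolve_right fun e => ?_
    have h2 := pPrimeCore_coprime (p := 2) (G := ↥Δ)
    rw [e, card_top] at h2
    exact Nat.not_even_iff_odd.2 (Nat.coprime_two_right.1 h2) (even_iff_two_dvd.2 heven)
  have hAC : IsPGroup 2 (zpowers (⟨c, hcv⟩ : ↥(Cz v))) :=
    isPGroup_zpowers_sub hcv (Invol.isPGroup_zpowers (n := 1) (by rw [hc2, pow_one]))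
  obtain ⟨h1, h2⟩ := pComponent_centralizer_lift hAC hΔC hΔcomp heven hcore
  set D₀ := pRes 2 (Δ.comap q ⊓ centralizer (zpowers (⟨c, hcv⟩ : ↥(Cz v)) : Set _)) with hD₀
  have hcz : centralizer (zpowers (⟨c, hcv⟩ : ↥(Cz v)) : Set _) = (Cz c).subgroupOf (Cz v) := by
    rw [zpowers_eq_closure, centralizer_closure, subgroupOf_centralizer_singleton hcv]
  set D := D₀.map (Cz v).subtype with hD
  have hsub : D.subgroupOf (Cz v) = D₀ :=
    comap_map_eq_self_of_injective (Cz v).subtype_injective D₀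
  have hDle : D ≤ Cz v ⊓ Cz c := by
    rintro _ ⟨x, hx, rfl⟩
    refine ⟨x.2, ?_⟩
    have hx' := (pRes_le _ hx).2
    rw [SetLike.mem_coe, hcz] at hx'
    exact hx'
  have hcompD : Cfsg.IsPComponentOf 2 D (Cz v ⊓ Cz c) := by
    rw [isPComponentOf_subgroupOf_iff hDle inf_le_left, hsub, inf_subgroupOf_left, ← hcz]
    exact h1
  have hbar : bar 2 (Cz v) D = Δ := by rw [bar, hsub]; exact h2
  let φ' : ↥D →* ↥Δ := (q.comp (inclusion (hDle.trans inf_le_left))).codRestrict Δ fun w =>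
    hbar ▸ toBar_mem_bar _ w.2
  have hs : Function.Surjective φ' := by
    intro x
    obtain ⟨w, hw, hwe⟩ : (x : Qv) ∈ bar 2 (Cz v) D := hbar.symm ▸ x.2
    exact ⟨⟨w, hw⟩, Subtype.ext hwe⟩
  have hk : φ'.ker = Cfsg.pPrimeCore 2 ↥D := by
    refine le_antisymm (le_pPrimeCore inferInstance ?_) ?_
    · refine Nat.Coprime.coprime_dvd_left ?_ (pPrimeCore_coprime (p := 2) (G := ↥(Cz v)))
      rw [← card_map_of_injective (f := inclusion (hDle.trans inf_le_left)) (inclusion_injective _)]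
      refine card_dvd_of_le ?_
      rintro _ ⟨w, hw, rfl⟩
      exact (QuotientGroup.eq_one_iff _).1 (congrArg Subtype.val hw)
    · rw [← Subgroup.map_eq_bot_iff]
      refine ((pPrimeCore_isNormal.map φ' hs).eq_bot_or_eq_top).resolve_right fun e => ?_
      have h3 := Nat.Coprime.coprime_dvd_left (card_map_dvd (f := φ') (Cfsg.pPrimeCore 2 ↥D))
        (pPrimeCore_coprime (p := 2) (G := ↥D))
      rw [e, card_top] at h3
      exact Nat.not_even_iff_odd.2 (Nat.coprime_two_right.1 h3) (even_iff_two_dvd.2 heven)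
  refine ⟨D, hcompD, ?_, ?_, ?_⟩
  · let e2 : ↥D ⧸ Cfsg.pPrimeCore 2 ↥D ≃* ↥Δ := (QuotientGroup.quotientMulEquivOfEq hk.symm).trans
      (QuotientGroup.quotientKerEquivOfSurjective φ' hs)
    rw [sz, Nat.card_congr (QuotientGroup.congr _ _ e2 (map_center' e2)).toEquiv,
      card_mod_center h.comp, hΔcen, Nat.card_congr (QuotientGroup.quotientBot (G := ↥Δ)).toEquiv]
    exact (Nat.card_congr ε.toEquiv).symm
  · intro x hx hx2 hxc
    have hxv : x ∈ Cz v := (hDle hx).1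
    have hxΔ : qz hxv ∈ Δ := hbar ▸ toBar_mem_bar hxv hx
    have hxcen : (⟨qz hxv, hxΔ⟩ : ↥Δ) ∈ Subgroup.center ↥Δ := by
      refine mem_center_iff.2 fun w => Subtype.ext ?_
      obtain ⟨⟨d, hdv⟩, hd, hde⟩ : (w : Qv) ∈ bar 2 (Cz v) D := hbar.symm ▸ w.2
      have h3 : ⁅x, d⁆ ∈ D ⊓ (Cfsg.pPrimeCore 2 ↥(Cz v ⊓ Cz c : Subgroup G)).map
          (Cz v ⊓ Cz c : Subgroup G).subtype := ⟨(by
        rw [commutatorElement_def]
        exact D.mul_mem (D.mul_mem (D.mul_mem hx hd) (D.inv_mem hx)) (D.inv_mem hd) : ⁅x, d⁆ ∈ D), hxc d hd⟩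
      rw [← pComponentOf_core hcompD] at h3
      obtain ⟨o, ho, hoe⟩ := h3
      rw [← hk] at ho
      show (w : Qv) * qz hxv = qz hxv * w
      rw [← hde]
      have h5 : q ⁅(⟨x, hxv⟩ : ↥(Cz v)), ⟨d, hdv⟩⁆ = 1 := by
        have h6 : q (inclusion (hDle.trans inf_le_left) o) = 1 := congrArg Subtype.val ho
        rw [show inclusion (hDle.trans inf_le_left) o = ⁅(⟨x, hxv⟩ : ↥(Cz v)), ⟨d, hdv⟩⁆ from
          Subtype.ext hoe] at h6
        exact h6
      rw [map_commutatorElement, commutatorElement_eq_one_iff_mul_comm] at h5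
      exact h5.symm
    rw [hΔcen, mem_bot] at hxcen
    refine eq_one_of_mem_Oz ((mem_Oz_iff hxv).2 ?_) hx2
    exact (QuotientGroup.eq_one_iff _).1 (congrArg Subtype.val hxcen)
  · intro g hg x hx hx2 hcong
    refine ⟨⟨x, hx.1⟩, mem_pRes ⟨?_, ?_⟩ (isPGroup_zpowers_sub hx.1 hx2), rfl⟩
    · show q ⟨x, hx.1⟩ ∈ Δ
      refine ⟨⟨qz (h.le hg), mem_img hg _⟩, ?_⟩
      rw [← (mk_eq_iff (mul_mem (h.le hg) (mul_mem (mul_mem hcv (h.le hg)) (inv_mem hcv))) hx.1).2 hcong]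
      rfl
    · rw [SetLike.mem_coe, hcz]
      exact hx.2

end Cfsg.Agent.Fus.FundPair
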