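import Cfsg.Agent.Lib.Invol.IndexTwoTransfer
import Cfsg.Agent.Lib.Invol.KleinSylow

/-!
Fusion in dihedral and four-group Sylow 2-subgroups of groups without subgroups of index 2.
-/

set_option autoImplicit false
set_option linter.unusedSectionVars false
set_option linter.style.haveILetI false

namespace Cfsg.Agent.Fus.FundPair

open Subgroup Cfsg.Agent.Invol

universe u

variable {X : Type u} [Group X] [Finite X]

theorem dihedral_cases {D : Subgroup X} {c y : X} (hy : y ∈ D)
    (hidx : (zpowers c).relIndex D = 2) (hyc : y ∉ zpowers c) {x : X} (hx : x ∈ D) :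
    (∃ i : ℤ, x = c ^ i) ∨ ∃ i : ℤ, x = y * c ^ i := by
  by_cases hxc : x ∈ zpowers c
  · obtain ⟨i, rfl⟩ := hxc
    exact Or.inl ⟨i, rfl⟩
  · have h := (Subgroup.mul_mem_iff_of_index_two (H := (zpowers c).subgroupOf D) hidx
      (a := ⟨y, hy⟩⁻¹) (b := ⟨x, hx⟩)).2 (iff_of_false
        (fun h => hyc (by simpa [mem_subgroupOf] using inv_mem h))
        (fun h => hxc (by simpa [mem_subgroupOf] using h)))
    obtain ⟨i, hi⟩ := (show y⁻¹ * x ∈ zpowers c by simpa [mem_subgroupOf] using h)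
    exact Or.inr ⟨i, by simp only at hi; rw [hi, mul_inv_cancel_left]⟩

/-- In a group without subgroups of index 2, an outside involution of a dihedral Sylow 2-subgroup is
conjugate into the cyclic part. -/
theorem fused_dihedral (hno : ∀ K : Subgroup X, K.Normal → K.index ≠ 2) (S : Sylow 2 X) {c y : X}
    (hc : c ∈ (S : Subgroup X)) (hy : y ∈ (S : Subgroup X)) (h4 : 4 ∣ orderOf c)
    (hyy : y * y = 1) (hinv : y * c * y⁻¹ = c⁻¹)
    (hidx : (zpowers c).relIndex (S : Subgroup X) = 2) (hyc : y ∉ zpowers c) :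
    ∃ g : X, g * y * g⁻¹ ∈ zpowers c := by
  obtain ⟨m, hm⟩ := h4
  have hm0 : 0 < m := by
    rcases Nat.eq_zero_or_pos m with h | h
    · exact absurd (orderOf_pos c) (by omega)
    · exact h
  by_contra hnot
  push Not at hnot
  set z := c ^ ((2 * m : ℕ) : ℤ) with hz
  have hpar : ∀ {i j : ℤ}, c ^ i = c ^ j → (Even i ↔ Even j) := by
    intro i j e
    have h1 := zpow_eq_zpow_iff_modEq.1 e
    rw [hm] at h1
    obtain ⟨t, ht⟩ := Int.modEq_iff_dvd.1 h1
    rw [show j = i + 2 * (2 * m * t) by push_cast at ht; linarith, Int.even_add]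
    simp [even_two_mul]
  have hz2 : z * z = 1 := by
    rw [hz, ← zpow_add, ← orderOf_dvd_iff_zpow_eq_one, hm]
    exact ⟨1, by push_cast; ring⟩
  have hyi : ∀ i : ℤ, y * c ^ i = c ^ (-i) * y := fun i => by
    have h1 : y * c ^ i * y⁻¹ = c ^ (-i) := by rw [← conj_zpow, hinv, inv_zpow, zpow_neg]
    rw [← h1, inv_mul_cancel_right]
  have hyy' : ∀ i : ℤ, y * c ^ i * (y * c ^ i) = 1 := fun i => by
    rw [show y * c ^ i * (y * c ^ i) = y * (c ^ i * y) * c ^ i by group,
      show c ^ i * y = y * c ^ (-i) by rw [hyi (-i), neg_neg],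
      ← mul_assoc, hyy, one_mul, ← zpow_add, neg_add_cancel, zpow_zero]
  have hyne : ∀ i j : ℤ, y * c ^ i ≠ c ^ j := fun i j e =>
    hyc (by rw [show y = c ^ j * (c ^ i)⁻¹ by rw [← e]; group]
            exact mul_mem (zpow_mem_zpowers c j) (inv_mem (zpow_mem_zpowers c i)))
  -- conjugates of outside elements
  have hsh : ∀ i j : ℤ, c ^ j * (y * c ^ i) * (c ^ j)⁻¹ = y * c ^ (i - 2 * j) := fun i j => by
    rw [← mul_assoc, show c ^ j * y = y * c ^ (-j) by rw [hyi (-j), neg_neg], mul_assoc, mul_assoc,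
      ← zpow_neg, ← zpow_add, ← zpow_add, show -j + (i + -j) = i - 2 * j by ring]
  have heven : ∀ i : ℤ, Even i → IsConj (y * c ^ i) y := fun i hi => by
    obtain ⟨j, rfl⟩ := hi
    refine isConj_iff.2 ⟨c ^ j, ?_⟩
    rw [hsh, show j + j - 2 * j = 0 by ring, zpow_zero, mul_one]
  have hodd : ∀ i : ℤ, ¬ Even i → IsConj (y * c ^ i) (y * c) := fun i hi => by
    obtain ⟨j, rfl⟩ := Int.not_even_iff_odd.1 hi
    refine isConj_iff.2 ⟨c ^ j, ?_⟩
    rw [hsh, show 2 * j + 1 - 2 * j = 1 by ring, zpow_one]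
  have hcinv : ∀ i : ℤ, c ^ i * c ^ i = 1 → c ^ i = 1 ∨ c ^ i = z := by
    intro i hi
    rw [← zpow_add, ← orderOf_dvd_iff_zpow_eq_one, hm] at hi
    obtain ⟨t, ht⟩ := hi
    push_cast at ht
    rcases Int.even_or_odd t with ⟨s, rfl⟩ | ⟨s, rfl⟩
    · refine Or.inl (orderOf_dvd_iff_zpow_eq_one.1 ?_)
      rw [hm]
      exact ⟨s, by push_cast; linarith⟩
    · refine Or.inr (zpow_eq_zpow_iff_modEq.2 (Int.modEq_iff_dvd.2 ⟨-s, ?_⟩))
      rw [hm]
      push_cast
      linarith
  have hyz : ¬ IsConj y z := fun h => by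
    obtain ⟨g, hg⟩ := isConj_iff.1 h
    exact hnot g (hg ▸ zpow_mem_zpowers c _)
  -- the cyclic part
  have h1 : IsConj (y * c) z := by
    by_contra h1
    obtain ⟨K, hK, hK2, -⟩ := exists_index_two_of_respects S (zpowers_le.2 hc) hidx (by
      have key : ∀ s ∈ (S : Subgroup X), ∀ g : X, g * s * g⁻¹ ∈ (S : Subgroup X) →
          s ∈ zpowers c → g * s * g⁻¹ ∈ zpowers c := by
        intro s hs g hgs ⟨i, hi⟩
        rcases dihedral_cases hy hidx hyc hgs with ⟨j, hj⟩ | ⟨j, hj⟩
        · exact hj ▸ zpow_mem_zpowers c j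
        exfalso
        have hconj : IsConj s (y * c ^ j) := isConj_iff.2 ⟨g, hj⟩
        subst hi
        have hinvol : c ^ i * c ^ i = 1 := by
          have h2 := hyy' j
          rw [← hj, show g * c ^ i * g⁻¹ * (g * c ^ i * g⁻¹) = g * (c ^ i * c ^ i) * g⁻¹ by group] at h2
          exact (mul_eq_left (a := g)).1 (mul_inv_eq_one.1 h2)
        rcases hcinv i hinvol with e | e
        · simp only [e, mul_one, mul_inv_cancel] at hj
          exact hyne j 0 (by rw [zpow_zero, ← hj])
        · simp only [e] at hconj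
          by_cases hp : Even j
          · exact hyz ((hconj.trans (heven j hp)).symm)
          · exact h1 ((hconj.trans (hodd j hp)).symm)
      intro s hs g hgs
      refine ⟨fun h => ?_, key s hs g hgs⟩
      have := key _ hgs g⁻¹ (by rwa [show g⁻¹ * (g * s * g⁻¹) * g⁻¹⁻¹ = s by group]) h
      rwa [show g⁻¹ * (g * s * g⁻¹) * g⁻¹⁻¹ = s by group] at this)
    exact hno K hK hK2
  -- the other dihedral subgroup of index 2
  let M : Subgroup X :=
    { carrier := {x | (∃ i : ℤ, Even i ∧ x = c ^ i) ∨ ∃ i : ℤ, ¬ Even i ∧ x = y * c ^ i}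
      one_mem' := Or.inl ⟨0, ⟨0, rfl⟩, (zpow_zero c).symm⟩
      mul_mem' := by
        rintro a b (⟨i, hi, rfl⟩ | ⟨i, hi, rfl⟩) (⟨j, hj, rfl⟩ | ⟨j, hj, rfl⟩)
        · exact Or.inl ⟨i + j, hi.add hj, (zpow_add c i j).symm⟩
        · refine Or.inr ⟨-i + j, by simp [Int.even_add, hi, hj], ?_⟩
          rw [zpow_add, ← mul_assoc, ← mul_assoc, hyi (-i), neg_neg]
        · refine Or.inr ⟨i + j, by simp [Int.even_add, hi, hj], ?_⟩
          rw [zpow_add, mul_assoc]
        · refine Or.inl ⟨-i + j, by simp [Int.even_add, hi, hj], ?_⟩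
          rw [zpow_add, hyi i, mul_assoc, ← mul_assoc y y, hyy, one_mul]
      inv_mem' := by
        rintro a (⟨i, hi, rfl⟩ | ⟨i, hi, rfl⟩)
        · exact Or.inl ⟨-i, hi.neg, (zpow_neg c i).symm⟩
        · exact Or.inr ⟨i, hi, inv_eq_of_mul_eq_one_left (hyy' i)⟩ }
  have hMc : ∀ i : ℤ, c ^ i ∈ M ↔ Even i := by
    intro i
    refine ⟨?_, fun h => Or.inl ⟨i, h, rfl⟩⟩
    rintro (⟨j, hj, e⟩ | ⟨j, -, e⟩)
    · exact (hpar e).2 hj
    · exact absurd e.symm (hyne j i)
  have hMy : ∀ i : ℤ, y * c ^ i ∈ M ↔ ¬ Even i := by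
    intro i
    refine ⟨?_, fun h => Or.inr ⟨i, h, rfl⟩⟩
    rintro (⟨j, -, e⟩ | ⟨j, hj, e⟩)
    · exact absurd e (hyne i j)
    · exact fun hi => hj ((hpar (mul_left_cancel e)).1 hi)
  have hMS : M ≤ (S : Subgroup X) := by
    rintro x (⟨i, -, rfl⟩ | ⟨i, -, rfl⟩)
    · exact zpow_mem hc i
    · exact mul_mem hy (zpow_mem hc i)
  obtain ⟨K, hK, hK2, -⟩ := exists_index_two_of_respects S hMS (by
      rw [Subgroup.relIndex, Subgroup.index_eq_two_iff]
      refine ⟨⟨c, hc⟩, fun b => ?_⟩
      simp only [mem_subgroupOf, coe_mul]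
      rcases dihedral_cases hy hidx hyc b.2 with ⟨i, e⟩ | ⟨i, e⟩
      · rw [e, ← zpow_add_one, hMc, hMc]
        by_cases hi : Even i
        · simp [Xor, hi, Int.not_odd_iff_even.2 hi]
        · simp [Xor, hi, Int.not_even_iff_odd.1 hi]
      · rw [e, mul_assoc, ← zpow_add_one, hMy, hMy]
        by_cases hi : Even i
        · simp [Xor, hi, Int.not_odd_iff_even.2 hi]
        · simp [Xor, hi, Int.not_even_iff_odd.1 hi])
    (by
      have key : ∀ s ∈ (S : Subgroup X), ∀ g : X, g * s * g⁻¹ ∈ (S : Subgroup X) →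
          s ∈ M → g * s * g⁻¹ ∈ M := by
        intro s hs g hgs hsM
        by_contra hn
        have hpw : ∀ n : ℤ, (g * s * g⁻¹) ^ n = g * s ^ n * g⁻¹ := fun n => conj_zpow
        rcases dihedral_cases hy hidx hyc hgs with ⟨j, hj⟩ | ⟨j, hj⟩
        · rw [hj, hMc] at hn
          obtain ⟨t, ht⟩ := Int.not_even_iff_odd.1 hn
          have h2 : (c ^ j) ^ (2 * m : ℤ) ≠ 1 := by
            rw [← zpow_mul, ne_eq, ← orderOf_dvd_iff_zpow_eq_one, hm]
            rintro ⟨r, hr⟩
            push_cast at hr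
            have : (2 * t + 1) * (2 * (m : ℤ)) = 4 * m * r := by rw [← ht]; linarith
            have h3 : 2 * t + 1 = 2 * r :=
              mul_right_cancel₀ (show (2 * (m : ℤ)) ≠ 0 by positivity) (by linarith)
            omega
          refine h2 ?_
          rw [← hj, hpw]
          rcases hsM with ⟨i, ⟨r, hr⟩, rfl⟩ | ⟨i, -, rfl⟩
          · rw [← zpow_mul, (orderOf_dvd_iff_zpow_eq_one).1
              ⟨r, by rw [hm, hr]; push_cast; ring⟩, mul_one, mul_inv_cancel]
          · rw [zpow_mul, zpow_two, hyy', one_zpow, mul_one, mul_inv_cancel]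
        · rw [hj, hMy, not_not] at hn
          have hconj : IsConj s y := (isConj_iff.2 ⟨g, hj⟩ : IsConj s (y * c ^ j)).trans (heven j hn)
          rcases hsM with ⟨i, -, rfl⟩ | ⟨i, hi, rfl⟩
          · have h2 := hyy' j
            rw [← hj, show g * c ^ i * g⁻¹ * (g * c ^ i * g⁻¹) = g * (c ^ i * c ^ i) * g⁻¹ by group] at h2
            rcases hcinv i ((mul_eq_left (a := g)).1 (mul_inv_eq_one.1 h2)) with e | e
            · rw [e] at hj
              exact hyne j 0 (by rw [zpow_zero, ← hj, mul_one, mul_inv_cancel])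
            · exact hyz (e ▸ hconj).symm
          · exact hyz (hconj.symm.trans ((hodd i hi).trans h1))
      intro s hs g hgs
      refine ⟨fun h => ?_, key s hs g hgs⟩
      have := key _ hgs g⁻¹ (by rwa [show g⁻¹ * (g * s * g⁻¹) * g⁻¹⁻¹ = s by group]) h
      rwa [show g⁻¹ * (g * s * g⁻¹) * g⁻¹⁻¹ = s by group] at this)
  exact hno K hK hK2

/-- In a group without subgroups of index 2 the involutions of a four-group Sylow subgroup are
permuted cyclically. -/
theorem exists_three_cycle (hno : ∀ K : Subgroup X, K.Normal → K.index ≠ 2) (S : Sylow 2 X)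
    (hS : IsKleinFour (S : Subgroup X)) {a b : X} (ha : a ∈ (S : Subgroup X))
    (hb : b ∈ (S : Subgroup X)) (ha1 : a ≠ 1) (hb1 : b ≠ 1) (hab : a ≠ b) :
    ∃ n : X, n * a * n⁻¹ = b ∧ n * b * n⁻¹ = a * b := by
  classical
  have := hS
  have hab1 : a * b ≠ 1 := fun e => hab (by
    rw [eq_inv_of_mul_eq_one_left e,
      inv_eq_of_mul_eq_one_left (by
        rw [← pow_two, ← klein_orderOf S hS hb hb1, pow_orderOf_eq_one])])
  have third : ∀ z ∈ (S : Subgroup X), z ≠ 1 → z ≠ a → z ≠ b → z = a * b := fun z hz hz1 hza hzb =>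
    congrArg Subtype.val (IsKleinFour.eq_mul_of_ne_all
      (x := (⟨a, ha⟩ : (S : Subgroup X))) (y := ⟨b, hb⟩) (z := ⟨z, hz⟩)
      (fun e => ha1 (congrArg Subtype.val e)) (fun e => hb1 (congrArg Subtype.val e))
      (fun e => hab (congrArg Subtype.val e))
      (fun e => hz1 (congrArg Subtype.val e)) (fun e => hza (congrArg Subtype.val e))
      (fun e => hzb (congrArg Subtype.val e)))
  -- some fusion
  obtain ⟨z, hz, hz1, hza, hcz⟩ : ∃ z ∈ (S : Subgroup X), z ≠ 1 ∧ z ≠ a ∧ IsConj a z := by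
    by_contra hcon
    push Not at hcon
    have hza : ∀ z ∈ zpowers a, z = 1 ∨ z = a := by
      rintro _ ⟨i, rfl⟩
      have haa : a * a = 1 := by rw [← pow_two, ← klein_orderOf S hS ha ha1, pow_orderOf_eq_one]
      rcases Int.even_or_odd i with ⟨k, rfl⟩ | ⟨k, rfl⟩
      · exact Or.inl (by simp only; rw [← two_mul, zpow_mul, zpow_two, haa, one_zpow])
      · exact Or.inr (by simp only; rw [zpow_add, zpow_mul, zpow_two, haa, one_zpow, one_mul, zpow_one])
    obtain ⟨K, hK, hK2, -⟩ := exists_index_two_of_respects S (zpowers_le.2 ha) (by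
      have h1 := Subgroup.card_mul_index ((zpowers a).subgroupOf (S : Subgroup X))
      rw [Nat.card_congr (subgroupOfEquivOfLe (zpowers_le.2 ha)).toEquiv, Nat.card_zpowers,
        klein_orderOf S hS ha ha1, IsKleinFour.card_four] at h1
      rw [Subgroup.relIndex]
      omega) (by
      intro s hs g hgs
      constructor
      · intro h
        rcases hza _ h with e | e
        · rw [mul_inv_eq_one, mul_eq_left] at e
          exact e ▸ one_mem _
        · by_cases hs1 : s = 1
          · exact hs1 ▸ one_mem _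
          by_cases hsa : s = a
          · exact hsa ▸ mem_zpowers a
          exact absurd (isConj_iff.2 ⟨g, e⟩ : IsConj s a).symm (hcon s hs hs1 hsa)
      · intro h
        rcases hza _ h with e | e
        · rw [e, mul_one, mul_inv_cancel]; exact one_mem _
        · subst e
          by_cases hga : g * s * g⁻¹ = s
          · rw [hga]; exact mem_zpowers _
          exact absurd (isConj_iff.2 ⟨g, rfl⟩ : IsConj s (g * s * g⁻¹))
            (hcon _ hgs (by simpa using ha1) hga))
    exact hno K hK hK2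
  obtain ⟨n, hn, hna⟩ := klein_fusion S hS ha hb
    (klein_all_conj S hS ha hz ha1 hza.symm hcz hb hb1)
  refine ⟨n, hna, third _ ((mem_normalizer_iff.1 hn b).1 hb) (by simpa using hb1) ?_ ?_⟩
  · intro hswap
    -- `n` would act with odd order and square trivially
    obtain ⟨k, o, ho, hord⟩ := Nat.exists_eq_two_pow_mul_odd (orderOf_pos n).ne'
    have hp : IsPGroup 2 (zpowers (n ^ o)) := by
      refine Invol.isPGroup_zpowers (n := k) ?_
      rw [orderOf_pow_of_dvd (by rintro rfl; simp at ho) (Dvd.intro_left _ hord.symm), hord,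
        Nat.mul_div_cancel _ ho.pos]
    have hmem : n ^ o ∈ (S : Subgroup X) := by
      have hle : zpowers (n ^ o) ≤ (S : Subgroup X) := by
        rw [← inf_eq_left, ← hp.inf_normalizer_sylow, inf_eq_left, zpowers_le]
        exact pow_mem hn o
      exact hle (mem_zpowers _)
    have hfix : n ^ o * a * (n ^ o)⁻¹ = a := by
      rw [klein_comm S hS hmem ha, mul_inv_cancel_right]
    have hsq : ∀ i : ℕ, (n * n) ^ i * a * ((n * n) ^ i)⁻¹ = a := fun i => by
      induction i with
      | zero => simp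
      | succ i ih =>
        calc (n * n) ^ (i + 1) * a * ((n * n) ^ (i + 1))⁻¹
            = n * (n * ((n * n) ^ i * a * ((n * n) ^ i)⁻¹) * n⁻¹) * n⁻¹ := by
              rw [pow_succ']; simp only [mul_inv_rev, mul_assoc]
          _ = a := by rw [ih, hna, hswap]
    obtain ⟨j, rfl⟩ := ho
    refine hab ?_
    calc a = n ^ (2 * j + 1) * a * (n ^ (2 * j + 1))⁻¹ := hfix.symm
      _ = n * ((n * n) ^ j * a * ((n * n) ^ j)⁻¹) * n⁻¹ := by
          rw [pow_succ', pow_mul, pow_two]; group
      _ = b := by rw [hsq, hna]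
  · intro hfix
    exact hab ((mul_left_cancel (mul_right_cancel (hfix.trans hna.symm))).symm)

end Cfsg.Agent.Fus.FundPair
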