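import Cfsg.Agent.Lib.Fus.FundPair.Struct
import Cfsg.Agent.Lib.Invol.ZStar
import Cfsg.Agent.Lib.Grp.Quasisimple

/-!
Inner action of the 2-layer on a component, and inverted elements of order 4.
-/

set_option autoImplicit false
set_option linter.unusedSectionVars false
set_option linter.style.haveILetI false

namespace Cfsg.Agent.Fus.FundPair

open Subgroup Cfsg.Agent.Grp Cfsg.Agent.Invol
open scoped commutatorElement

universe u

variable {G : Type u} [Group G] [Finite G]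

/-- The image of an element in the centralizer modulo its core. -/
abbrev qz {v x : G} (hx : x ∈ Cz v) : ↥(Cz v) ⧸ Cfsg.pPrimeCore 2 ↥(Cz v) :=
  QuotientGroup.mk' (Cfsg.pPrimeCore 2 ↥(Cz v)) ⟨x, hx⟩

/-- The order of the simple section of a 2-component. -/
noncomputable def sz (J : Subgroup G) : ℕ :=
  Nat.card ((↥J ⧸ Cfsg.pPrimeCore 2 ↥J) ⧸ Subgroup.center (↥J ⧸ Cfsg.pPrimeCore 2 ↥J))

theorem map_center' {A B : Type u} [Group A] [Group B] (e : A ≃* B) :
    (Subgroup.center A).map e.toMonoidHom = Subgroup.center B := by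
  ext y
  constructor
  · rintro ⟨x, hx, rfl⟩
    refine mem_center_iff.2 fun z => ?_
    obtain ⟨w, rfl⟩ := e.surjective z
    show e w * e x = e x * e w
    rw [← map_mul, ← map_mul, mem_center_iff.1 hx w]
  · intro hy
    refine ⟨e.symm y, mem_center_iff.2 fun z => e.injective ?_, e.apply_symm_apply y⟩
    rw [map_mul, map_mul, e.apply_symm_apply]
    exact mem_center_iff.1 hy (e z)

variable {v u : G} {J K : Subgroup G}

theorem cent_iff (h : Fund v J) {c : G} (hc : c ∈ Cz v) :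
    Cent v c J ↔ qz hc ∈ centralizer (img v J : Set _) := by
  constructor
  · intro hC
    obtain ⟨_, h2⟩ := mem_centMod.1 ((mem_centMod_iff (p := 2) h.le).2 ⟨hc, hC⟩)
    exact h2
  · intro h2
    exact ((mem_centMod_iff (p := 2) h.le).1 (mem_centMod.2 ⟨hc, h2⟩)).2

theorem centMod_of_cent (h : Fund v J) {c : G} (hc : c ∈ Cz v) (hC : Cent v c J) :
    c ∈ centMod 2 (Cz v) J :=
  (mem_centMod_iff h.le).2 ⟨hc, hC⟩

theorem normalizes_of_cent (h : Fund v J) {c : G} (hc : c ∈ Cz v) (hC : Cent v c J) :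
    c ∈ normalizer (J : Set G) :=
  haveI : Fact (Nat.Prime 2) := ⟨Nat.prime_two⟩
  centMod_le_normalizer h.comp (centMod_of_cent h hc hC)

theorem normalizer_img {c : G} (hc : c ∈ Cz v) (hn : c ∈ normalizer (J : Set G))
    {k : ↥(Cz v) ⧸ Cfsg.pPrimeCore 2 ↥(Cz v)} (hk : k ∈ img v J) :
    qz hc * k * (qz hc)⁻¹ ∈ img v J := by
  obtain ⟨j, hj, rfl⟩ := hk
  exact ⟨⟨c, hc⟩ * j * ⟨c, hc⟩⁻¹, (mem_normalizer_iff.1 hn j).1 hj, rfl⟩

/-- Trivial action modulo the centre on a perfect subgroup is trivial. -/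
theorem centralizes_of_mod_center {Y : Type*} [Group Y] {L : Subgroup Y} (hL : ⁅L, L⁆ = L) {c : Y}
    (h : ∀ k ∈ L, ⁅c, k⁆ ∈ centralizer (L : Set Y) ∧ ⁅c, k⁆ ∈ L) : c ∈ centralizer (L : Set Y) := by
  suffices hs : L ≤ centralizer ({c} : Set Y) from
    mem_centralizer_iff.2 fun k hk => mem_centralizer_singleton_iff.1 (hs hk)
  rw [← hL, commutator_le]
  intro a ha b hb
  obtain ⟨hza, hzaL⟩ := h a ha
  obtain ⟨hzb, hzbL⟩ := h b hb
  rw [mem_centralizer_singleton_iff]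
  have e : c * ⁅a, b⁆ * c⁻¹ = ⁅⁅c, a⁆ * a, ⁅c, b⁆ * b⁆ := by simp only [commutatorElement_def]; group
  have key : ∀ {z w : Y}, z ∈ centralizer (L : Set Y) → w ∈ centralizer (L : Set Y) → z ∈ L →
      w ∈ L → ⁅z * a, w * b⁆ = ⁅a, b⁆ := by
    intro z w hz hw hzL hwL
    have c1 : Commute z a := (mem_centralizer_iff.1 hz a ha).symm
    have c2 : Commute z b := (mem_centralizer_iff.1 hz b hb).symm
    have c3 : Commute w a := (mem_centralizer_iff.1 hw a ha).symm
    have c4 : Commute w b := (mem_centralizer_iff.1 hw b hb).symm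
    have c5 : Commute z w := (mem_centralizer_iff.1 hz w hwL).symm
    rw [commutatorElement_def, commutatorElement_def]
    calc z * a * (w * b) * (z * a)⁻¹ * (w * b)⁻¹
        = z * (a * w) * b * a⁻¹ * z⁻¹ * b⁻¹ * w⁻¹ := by group
      _ = z * (w * a) * b * a⁻¹ * z⁻¹ * b⁻¹ * w⁻¹ := by rw [c3.eq]
      _ = z * w * a * b * a⁻¹ * (z⁻¹ * b⁻¹) * w⁻¹ := by group
      _ = z * w * a * b * a⁻¹ * (b⁻¹ * z⁻¹) * w⁻¹ := by rw [c2.inv_inv.eq]
      _ = z * w * (a * b * a⁻¹ * b⁻¹) * (z⁻¹ * w⁻¹) := by group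
      _ = (a * b * a⁻¹ * b⁻¹) * (z * w) * (z⁻¹ * w⁻¹) := by
          rw [show z * w * (a * b * a⁻¹ * b⁻¹) = a * b * a⁻¹ * b⁻¹ * (z * w) from
            (((c1.mul_right c2).mul_right c1.inv_right).mul_right c2.inv_right).mul_left
              (((c3.mul_right c4).mul_right c3.inv_right).mul_right c4.inv_right)]
      _ = _ := by rw [show (z⁻¹ * w⁻¹ : Y) = (w * z)⁻¹ by group, ← c5.eq, mul_inv_cancel_right]
  rw [key hza hzb hzaL hzbL] at e
  exact (mul_inv_eq_iff_eq_mul.1 e).symm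

theorem Fund.cent_of_mod_center (h : Fund v J) {c : G} (hc : c ∈ Cz v)
    (hn : c ∈ normalizer (J : Set G))
    (hm : ∀ k ∈ img v J, ⁅qz hc, k⁆ ∈ centralizer (img v J : Set _)) : Cent v c J := by
  refine (cent_iff h hc).2 (centralizes_of_mod_center (IsComponent.perfect h.img_comp)
    fun k hk => ⟨hm k hk, ?_⟩)
  rw [commutatorElement_def]
  exact mul_mem (normalizer_img hc hn hk) (inv_mem hk)

theorem card_mod_center {W : Subgroup G} {H : Subgroup G} (hW : Cfsg.IsPComponentOf 2 W H) :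
    sz W = Nat.card (↥(bar 2 H W) ⧸ Subgroup.center ↥(bar 2 H W)) := by
  haveI : Fact (Nat.Prime 2) := ⟨Nat.prime_two⟩
  obtain ⟨e⟩ := quotient_core_equiv hW.2.2.1
  let f := (QuotientGroup.congr _ _ (subgroupOfEquivOfLe hW.1).symm
    (pPrimeCore_map_equiv (p := 2) (subgroupOfEquivOfLe hW.1).symm)).trans e
  exact Nat.card_congr (QuotientGroup.congr _ _ f (map_center' f)).toEquiv

theorem sz_map (J : Subgroup G) (e : G ≃* G) :
    sz (J.map e.toMonoidHom) = sz J := by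
  let e' : ↥J ≃* ↥(J.map e.toMonoidHom) := e.subgroupMap J
  let f := QuotientGroup.congr (Cfsg.pPrimeCore 2 ↥J) (Cfsg.pPrimeCore 2 ↥(J.map e.toMonoidHom)) e'
    (pPrimeCore_map_equiv (p := 2) e')
  exact (Nat.card_congr (QuotientGroup.congr _ _ f (map_center' f)).toEquiv).symm

/-- A proper normal subgroup of a 2-component has index at least the order of its simple section. -/
theorem sz_le_index {D H : Subgroup G} (hD : Cfsg.IsPComponentOf 2 D H) (N : Subgroup ↥D) [N.Normal]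
    (hN : N ≠ ⊤) : sz D ≤ N.index := by
  haveI : Fact (Nat.Prime 2) := ⟨Nat.prime_two⟩
  haveI := pPrimeCore_isNormal (p := 2) (G := ↥D)
  set π := QuotientGroup.mk' (Cfsg.pPrimeCore 2 ↥D)
  haveI : (N.map π).Normal := (inferInstance : N.Normal).map π (QuotientGroup.mk'_surjective _)
  have hidx : (N.map π).index ∣ N.index := index_map_dvd _ (QuotientGroup.mk'_surjective _)
  rcases IsQuasisimple.eq_top_or_le_center (pComponentOf_quotient_quasisimple hD) (N.map π) with e | e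
  · refine absurd ?_ hN
    rw [eq_top_iff]
    rintro ⟨x, hx⟩ -
    have hgen : pRes 2 D = D := Invol.pComponentOf_eq_pRes hD
    have key : pRes 2 D ≤ N.map D.subtype := by
      refine (closure_le _).2 ?_
      rintro y ⟨hy, hy2⟩
      refine ⟨⟨y, hy⟩, ?_, rfl⟩
      refine pElement_mem_of_sup (W := N) (pPrimeCore_coprime (p := 2) (G := ↥D)) ?_
        ((isPGroup_zpowers_coe (⟨y, hy⟩ : ↥D)).2 hy2)
      have h2 : π ⟨y, hy⟩ ∈ N.map π := e.symm ▸ mem_top _
      rw [← mem_comap, comap_map_eq, QuotientGroup.ker_mk'] at h2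
      exact h2
    obtain ⟨w, hw, hwx⟩ := key (hgen.symm ▸ hx)
    rwa [show (⟨x, hx⟩ : ↥D) = w from Subtype.ext hwx.symm]
  · refine le_trans ?_ (Nat.le_of_dvd (Nat.pos_of_ne_zero index_ne_zero_of_finite) hidx)
    rw [sz, ← index_eq_card]
    exact Nat.le_of_dvd (Nat.pos_of_ne_zero index_ne_zero_of_finite) (index_dvd_of_le e)

/-- L-balance for the centralizer of two commuting elements. -/
theorem le_pLayerIn {w : G} (hv : orderOf v = 2) (hvw : Commute v w) {D : Subgroup G}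
    (hD : Cfsg.IsPComponentOf 2 D (Cz v ⊓ Cz w)) : D ≤ pLayerIn 2 (Cz w) := by
  haveI : Fact (Nat.Prime 2) := ⟨Nat.prime_two⟩
  have h1 : D ≤ pLayerIn 2 (Cz v ⊓ Cz w) := fun x hx =>
    ⟨⟨x, hD.1 hx⟩, (le_sSup hD.2 : _ ≤ Cfsg.pLayer 2 _) hx, rfl⟩
  have hvY : v ∈ Cz w := mem_Cz'.2 hvw
  have hz : IsPGroup 2 (zpowers (⟨v, hvY⟩ : ↥(Cz w))) :=
    Invol.isPGroup_zpowers (n := 1) (by rw [← Subgroup.orderOf_coe, pow_one]; exact hv)
  have e : (Cz v ⊓ Cz w).subgroupOf (Cz w) = centralizer (zpowers (⟨v, hvY⟩ : ↥(Cz w)) : Set _) := by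
    rw [inf_subgroupOf_right, zpowers_eq_closure, centralizer_closure,
      subgroupOf_centralizer_singleton hvY]
  refine h1.trans ((pLayerIn_subgroupOf (inf_le_right : Cz v ⊓ Cz w ≤ Cz w)).trans ?_)
  rw [e]
  exact map_mono (lBalance hz)

theorem pLayerIn_normalizes (h : Fund v J) {e : G} (he : e ∈ pLayerIn 2 (Cz v)) :
    e ∈ normalizer (J : Set G) := by
  haveI : Fact (Nat.Prime 2) := ⟨Nat.prime_two⟩
  obtain ⟨w, hw, rfl⟩ := he
  have h2 := Subgroup.le_normalizer_map (Cz v).subtype ⟨w, pLayer_le_normalizer h.comp.2 hw, rfl⟩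
  rwa [subgroupOf_map_subtype, inf_eq_left.2 h.le] at h2

theorem exists_decomp (h : Fund v J) {e : G} (he : e ∈ pLayerIn 2 (Cz v)) :
    ∃ d ∈ img v J, d⁻¹ * qz (pLayerIn_le _ he) ∈ centralizer (img v J : Set _) := by
  haveI : Fact (Nat.Prime 2) := ⟨Nat.prime_two⟩
  obtain ⟨w, hw, rfl⟩ := he
  have h1 : QuotientGroup.mk' (Cfsg.pPrimeCore 2 ↥(Cz v)) w ∈ Cfsg.layer _ :=
    pLayer_map (p := 2) (G := ↥(Cz v)) ▸ mem_map_of_mem _ hw
  obtain ⟨d, hd, c, hc, -, e'⟩ := ComponentSplit.exists_layer_decomp h.img_comp h1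
  refine ⟨d, hd, ?_⟩
  show d⁻¹ * QuotientGroup.mk' (Cfsg.pPrimeCore 2 ↥(Cz v)) w ∈ _
  rw [e', inv_mul_cancel_left]
  exact hc

/-- A component in the layer of `C(v)` centralized by an involution moving the elements of `J`
centralizes `J` modulo the core. -/
theorem cent_of_layer (h : Fund v J) {D H : Subgroup G} (hD : Cfsg.IsPComponentOf 2 D H)
    (hDL : D ≤ pLayerIn 2 (Cz v)) (hsz : sz J ≤ sz D) {c : G} (hc : c ∈ Cz v)
    (hn : c ∈ normalizer (J : Set G)) (hcD : ∀ x ∈ D, Commute x c) (hnc : ¬ Cent v c J) :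
    ∀ x ∈ D, Cent v x J := by
  set L := img v J with hL
  have hDC : D ≤ Cz v := hDL.trans (pLayerIn_le _)
  choose d hd hdc using fun x : ↥D => exists_decomp h (hDL x.2)
  set Z := Subgroup.center ↥L with hZ
  have hdc' : ∀ x : ↥D, (d x)⁻¹ * qz (hDC x.2) ∈ centralizer (L : Set _) := hdc
  have huniq : ∀ (x : ↥D) (d' : ↥L),
      (d' : ↥(Cz v) ⧸ Cfsg.pPrimeCore 2 ↥(Cz v))⁻¹ * qz (hDC x.2) ∈ centralizer (L : Set _) →
      (QuotientGroup.mk ⟨d x, hd x⟩ : ↥L ⧸ Z) = QuotientGroup.mk d' := by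
    intro x d' hd'
    refine QuotientGroup.eq.2 (mem_center_iff.2 fun g => Subtype.ext ?_)
    have h2 := mul_mem (hdc' x) (inv_mem hd')
    rw [mul_inv_rev, inv_inv, mul_assoc, mul_inv_cancel_left] at h2
    exact mem_centralizer_iff.1 h2 g g.2
  let ψ : ↥D →* ↥L ⧸ Z := MonoidHom.mk' (fun x => QuotientGroup.mk ⟨d x, hd x⟩) (by
    intro x y
    rw [← QuotientGroup.mk_mul]
    refine huniq (x * y) (⟨d x, hd x⟩ * ⟨d y, hd y⟩) ?_
    have e : qz (hDC (x * y).2) = qz (hDC x.2) * qz (hDC y.2) :=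
      map_mul (QuotientGroup.mk' (Cfsg.pPrimeCore 2 ↥(Cz v))) ⟨x, hDC x.2⟩ ⟨y, hDC y.2⟩
    show (d x * d y)⁻¹ * qz (hDC (x * y).2) ∈ _
    have hcomm := mem_centralizer_iff.1 (hdc' x) (d y) (hd y)
    rw [e, show (d x * d y)⁻¹ * (qz (hDC x.2) * qz (hDC y.2)) =
      (d y)⁻¹ * ((d x)⁻¹ * qz (hDC x.2) * d y) * ((d y)⁻¹ * qz (hDC y.2)) by group, ← hcomm,
      inv_mul_cancel_left]
    exact mul_mem (hdc' x) (hdc' y))
  have hker : ∀ x : ↥D, x ∈ ψ.ker → Cent v (x : G) J := by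
    intro x hx
    refine (cent_iff h (hDC x.2)).2 ?_
    have hz : (⟨d x, hd x⟩ : ↥L) ∈ Z := (QuotientGroup.eq_one_iff _).1 hx
    have hdz : d x ∈ centralizer (L : Set _) := mem_centralizer_iff.2 fun g hg =>
      congrArg Subtype.val (mem_center_iff.1 hz ⟨g, hg⟩)
    have := mul_mem hdz (hdc' x)
    rwa [mul_inv_cancel_left] at this
  intro x hx
  refine hker ⟨x, hx⟩ ?_
  suffices ht : ψ.ker = ⊤ by rw [ht]; exact mem_top _
  by_contra hne
  have h1 : sz J ≤ Nat.card ψ.range := by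
    rw [← index_ker]; exact hsz.trans (sz_le_index hD ψ.ker hne)
  have hsurj : ψ.range = ⊤ := by
    refine eq_top_of_le_card _ ?_
    rwa [← card_mod_center h.comp]
  refine hnc (h.cent_of_mod_center hc hn fun k hk => ?_)
  obtain ⟨y, hy⟩ : (QuotientGroup.mk ⟨k, hk⟩ : ↥L ⧸ Z) ∈ ψ.range := hsurj ▸ mem_top _
  have hz := mem_center_iff.1 (QuotientGroup.eq.1 hy)
  have hdk : (d y)⁻¹ * k ∈ centralizer (L : Set _) :=
    mem_centralizer_iff.2 fun g hg => congrArg Subtype.val (hz ⟨g, hg⟩)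
  have hyk : k⁻¹ * qz (hDC y.2) ∈ centralizer (L : Set _) := by
    have := mul_mem (inv_mem hdk) (hdc' y)
    rwa [mul_inv_rev, inv_inv, mul_assoc, mul_inv_cancel_left] at this
  have hcy : Commute (qz hc) (qz (hDC y.2)) :=
    (show Commute (⟨c, hc⟩ : ↥(Cz v)) ⟨y, hDC y.2⟩ from Subtype.ext (hcD y y.2).symm.eq).map _
  have hconj : qz hc * (k⁻¹ * qz (hDC y.2)) * (qz hc)⁻¹ ∈ centralizer (L : Set _) := by
    rw [mem_centralizer_iff]
    intro g hg
    have hg' : (qz hc)⁻¹ * g * qz hc ∈ L := by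
      have h3 : (⟨c, hc⟩ : ↥(Cz v))⁻¹ = ⟨c⁻¹, inv_mem hc⟩ := rfl
      have := normalizer_img (inv_mem hc) (inv_mem hn) hg
      rwa [show qz (inv_mem hc) = (qz hc)⁻¹ from rfl, inv_inv] at this
    have h4 := mem_centralizer_iff.1 hyk _ hg'
    calc g * (qz hc * (k⁻¹ * qz (hDC y.2)) * (qz hc)⁻¹)
        = qz hc * (((qz hc)⁻¹ * g * qz hc) * (k⁻¹ * qz (hDC y.2))) * (qz hc)⁻¹ := by group
      _ = _ := by rw [h4]; group
  have := mul_mem hconj (inv_mem hyk)
  rw [show qz hc * (k⁻¹ * qz (hDC y.2)) * (qz hc)⁻¹ * (k⁻¹ * qz (hDC y.2))⁻¹ =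
    qz hc * k⁻¹ * (qz (hDC y.2) * (qz hc)⁻¹) * (qz (hDC y.2))⁻¹ * k by group,
    ← hcy.inv_left.eq,
    show qz hc * k⁻¹ * ((qz hc)⁻¹ * qz (hDC y.2)) * (qz (hDC y.2))⁻¹ * k =
      ⁅qz hc, k⁻¹⁆ by rw [commutatorElement_def]; group] at this
  have e : ⁅qz hc, k⁆ = k * ⁅qz hc, k⁻¹⁆⁻¹ * k⁻¹ := by simp only [commutatorElement_def]; group
  rw [e, (mem_centralizer_iff.1 (inv_mem this) k hk), mul_inv_cancel_right]
  exact inv_mem this

/-- The cover of `K` in the centralizer of an involution centralizing it modulo the core. -/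
theorem Fund.cover (h : Fund u K) {c : G} (hc2 : orderOf c = 2) (hc : c ∈ Cz u)
    (hC : Cent u c K) :
    Cfsg.IsPComponentOf 2 (pRes 2 (K ⊓ Cz c)) (Cz u ⊓ Cz c) ∧
      sz (pRes 2 (K ⊓ Cz c)) = sz K ∧ u ∈ pRes 2 (K ⊓ Cz c) ∧
      bar 2 (Cz u) (pRes 2 (K ⊓ Cz c)) = bar 2 (Cz u) K := by
  haveI : Fact (Nat.Prime 2) := ⟨Nat.prime_two⟩
  have hA : IsPGroup 2 (zpowers c) := Invol.isPGroup_zpowers (n := 1) (by rw [hc2, pow_one])
  have hcz : centralizer (zpowers c : Set G) = Cz c := by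
    rw [zpowers_eq_closure, centralizer_closure]
  have hd := descend h.comp hA (zpowers_le.2 (centMod_of_cent h hc hC))
  rw [hcz] at hd
  refine ⟨hd.1, ?_, mem_pRes ⟨h.mem, mem_Cz'.2 (mem_Cz'.1 hc).symm⟩
    (Invol.isPGroup_zpowers (n := 1) (by rw [h.ord, pow_one])), hd.2⟩
  set W := pRes 2 (K ⊓ Cz c)
  have hcomp : Cfsg.IsComponent (bar 2 (Cz u) W) := by rw [hd.2]; exact h.comp.2.2.1
  obtain ⟨e⟩ := quotient_core_equiv (p := 2) hcomp
  have hWle : W ≤ Cz u := (pRes_le _).trans (inf_le_left.trans h.le)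
  let f := (QuotientGroup.congr _ _ (subgroupOfEquivOfLe hWle).symm
    (pPrimeCore_map_equiv (p := 2) (subgroupOfEquivOfLe hWle).symm)).trans e
  rw [card_mod_center h.comp, ← hd.2]
  exact Nat.card_congr (QuotientGroup.congr _ _ f (map_center' f)).toEquiv

/-- If `v` centralizes `K` modulo the core then `u` centralizes `J` modulo the core, and 2-elements
of `K` centralized by `v` normalize `J`. -/
theorem mutual_cent (hJ : Fund v J) (hK : Fund u K) (hsz : sz J = sz K) (huv : Commute u v)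
    (hC : Cent u v K) :
    u ∈ normalizer (J : Set G) ∧ Cent v u J ∧
      ∀ y ∈ K, IsPGroup 2 (zpowers y) → Commute y v → y ∈ normalizer (J : Set G) := by
  haveI : Fact (Nat.Prime 2) := ⟨Nat.prime_two⟩
  obtain ⟨hcomp, hszW, huW, -⟩ := hK.cover hJ.ord (mem_Cz'.2 huv.symm) hC
  have hL := le_pLayerIn hK.ord huv hcomp
  have hn : u ∈ normalizer (J : Set G) := pLayerIn_normalizes hJ (hL huW)
  refine ⟨hn, ?_, fun y hy hy2 hyv =>
    pLayerIn_normalizes hJ (hL (mem_pRes ⟨hy, mem_Cz'.2 hyv⟩ hy2))⟩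
  by_contra hnc
  exact hnc (cent_of_layer hJ hcomp hL (hsz.trans hszW.symm).le (mem_Cz'.2 huv) hn
    (fun x hx => mem_Cz'.1 (hcomp.1 hx).1) hnc u huW)

/-- A 2-group normalizing `J` that does not centralize it inverts an element of order 4. -/
theorem exists_inverted (h : Fund v J) {Q : Subgroup G} (hQ : IsSylJ Q J) {a : G}
    (ha2 : orderOf a = 2) (hav : Commute a v) (hn : a ∈ normalizer (J : Set G))
    (hnQ : a ∈ normalizer (Q : Set G)) (hnc : ¬ Cent v a J) :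
    ∃ g ∈ Q, g * g = v ∧ a * g * a = g⁻¹ := by
  haveI : Fact (Nat.Prime 2) := ⟨Nat.prime_two⟩
  have haa : a * a = 1 := by rw [← pow_two, ← ha2, pow_orderOf_eq_one]
  have hainv : a⁻¹ = a := inv_eq_of_mul_eq_one_left haa
  have hvv : v * v = 1 := by rw [← pow_two, ← h.ord, pow_orderOf_eq_one]
  have hv1 : v ≠ 1 := fun e => by simpa [e] using h.ord
  have hvQ : v ∈ Q := h.v_mem_sylJ hQ
  obtain ⟨r, hr⟩ := h.quat hQ
  by_contra hcon
  push Not at hcon
  -- `a` fixes `Q`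
  have hfix : ∀ x ∈ Q, a * x * a⁻¹ = x := by
    refine hr.fix fun x hx hxv => ?_
    by_contra hne
    have hy : a * x * a⁻¹ ∈ Q := (mem_normalizer_iff.1 hnQ x).1 hx
    set d := x⁻¹ * (a * x * a⁻¹) with hd
    have hdQ : d ∈ Q := mul_mem (inv_mem hx) hy
    have hdinv : a * d * a = d⁻¹ := by
      rw [hd, hainv]
      calc a * (x⁻¹ * (a * x * a)) * a = (a * x⁻¹ * a) * x * (a * a) := by group
        _ = (a * x * a)⁻¹ * x := by rw [haa, mul_one, mul_inv_rev, mul_inv_rev, hainv, ← mul_assoc]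
        _ = _ := by group
    obtain ⟨k, hk⟩ := IsPGroup.iff_orderOf.1 (isPGroup_of_mem hQ.2.1 hdQ) ⟨d, mem_zpowers d⟩
    rw [Subgroup.orderOf_mk] at hk
    have hd1 : d ≠ 1 := fun e => hne (inv_mul_eq_one.1 e).symm
    have hk0 : k ≠ 0 := fun e => hd1 (orderOf_eq_one_iff.1 (by rw [hk, e, pow_zero]))
    by_cases hk1 : k = 1
    · have hdv : d = v := h.uniq d (hQ.1 hdQ) (by rw [hk, hk1, pow_one])
      refine hcon x hx hxv ?_
      rw [show a * x * a = x * d by rw [hd, hainv, mul_inv_cancel_left], hdv]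
      refine eq_inv_of_mul_eq_one_left ?_
      rw [mul_assoc, (h.commute_v (hQ.1 hx)).symm.eq, ← mul_assoc, hxv, hvv]
    · set g := d ^ 2 ^ (k - 2)
      have hgord : orderOf g = 4 := by
        rw [orderOf_pow_of_dvd (by positivity) (by rw [hk]; exact pow_dvd_pow 2 (by omega)), hk,
          Nat.pow_div (by omega) two_pos, show k - (k - 2) = 2 by omega]
        rfl
      have hgQ : g ∈ Q := pow_mem hdQ _
      refine hcon g hgQ (h.uniq _ (hQ.1 (mul_mem hgQ hgQ)) ?_) ?_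
      · rw [← pow_two, orderOf_pow, hgord]; rfl
      · calc a * g * a = (a * d * a⁻¹) ^ 2 ^ (k - 2) := by rw [conj_pow, hainv]
          _ = _ := by rw [hainv, hdinv, inv_pow]
  have hac : ∀ x ∈ Q, Commute a x := fun x hx => mul_inv_eq_iff_eq_mul.1 (hfix x hx)
  have hav' : a ≠ v := by
    rintro rfl
    refine hnc fun j hj => ?_
    rw [commutatorElement_eq_one_iff_mul_comm.2 (h.commute_v hj).eq.symm]
    exact one_mem _
  have haJ : a ∉ J := fun e => hav' (h.uniq a e ha2)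
  -- the group `J⟨a⟩`
  set X := J ⊔ zpowers a with hX
  have hJX : J ≤ X := le_sup_left
  have haX : a ∈ X := mem_sup_right (mem_zpowers a)
  have hmemX : ∀ x ∈ X, ∃ j ∈ J, x = j ∨ x = j * a := by
    intro x hx
    rw [← SetLike.mem_coe, hX, coe_mul_of_right_le_normalizer_left J _ (zpowers_le.2 hn)] at hx
    obtain ⟨j, hj, w, ⟨i, rfl⟩, rfl⟩ := hx
    refine ⟨j, hj, ?_⟩
    rcases Int.even_or_odd i with ⟨m, rfl⟩ | ⟨m, rfl⟩
    · exact Or.inl (by simp only; rw [← two_mul, zpow_mul, zpow_two, haa, one_zpow, mul_one])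
    · exact Or.inr (by simp only; rw [zpow_add, zpow_mul, zpow_two, haa, one_zpow, one_mul, zpow_one])
  have hQa : IsPGroup 2 (Q ⊔ zpowers a : Subgroup G) :=
    hQ.2.1.to_sup_of_normal_left' (Invol.isPGroup_zpowers (n := 1) (by rw [ha2, pow_one]))
      (zpowers_le.2 hnQ)
  have hle : Q ⊔ zpowers a ≤ X := sup_le (hQ.1.trans hJX) (zpowers_le.2 haX)
  obtain ⟨T, hT⟩ :=
    (hQa.comap_of_injective X.subtype X.subtype_injective :
      IsPGroup 2 ((Q ⊔ zpowers a).subgroupOf X)).exists_le_sylow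
  set T' := (T : Subgroup ↥X).map X.subtype with hT'
  have hT'2 : IsPGroup 2 T' := T.isPGroup'.map _
  have hQT : Q ≤ T' := fun x hx => ⟨⟨x, hle (mem_sup_left hx)⟩, hT (mem_sup_left hx), rfl⟩
  have haT : a ∈ T' := ⟨⟨a, haX⟩, hT (mem_sup_right (mem_zpowers a)), rfl⟩
  have hTJ : ∀ x ∈ T', x ∈ J → x ∈ Q := by
    intro x hx hxJ
    have h1 : (Q.subgroupOf (T' ⊓ J)).index = 1 := by
      obtain ⟨k, hk⟩ := (hT'2.to_le (inf_le_left : T' ⊓ J ≤ T')).index (Q.subgroupOf (T' ⊓ J))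
      rcases k with _ | k
      · rw [hk, pow_zero]
      · exfalso
        refine hQ.2.2 (dvd_trans (dvd_pow_self 2 k.succ_ne_zero) ?_)
        rw [← hk, ← Subgroup.relIndex]
        exact Dvd.intro _ (relIndex_mul_relIndex Q (T' ⊓ J) J (le_inf hQT hQ.1) inf_le_right)
    exact (Subgroup.relIndex_eq_one.1 h1) ⟨hx, hxJ⟩
  -- conjugates of `a` in `T'`
  have hfus : ∀ g ∈ X, g * a * g⁻¹ ∈ T' → g * a * g⁻¹ = a ∨ g * a * g⁻¹ = v * a := by
    intro g hg hgT
    have hc2 : orderOf (g * a * g⁻¹) = 2 := by rw [Invol.orderOf_conj_eq, ha2]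
    obtain ⟨j, hj, e | e⟩ := hmemX _ (mul_mem (mul_mem hg haX) (inv_mem hg))
    · exfalso
      have := h.uniq _ (e ▸ hj) hc2
      have hgv : Commute g v := by
        have hXC : X ≤ Cz v := sup_le h.le (zpowers_le.2 (mem_Cz'.2 hav))
        exact mem_Cz'.1 (hXC hg)
      refine hav' ?_
      calc a = g⁻¹ * (g * a * g⁻¹) * g := by group
        _ = v := by rw [this, mul_assoc, ← hgv.eq, inv_mul_cancel_left]
    · have hjT : j ∈ T' := by
        rw [e] at hgT
        have := mul_mem hgT haT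
        rwa [mul_assoc, haa, mul_one] at this
      have hjQ := hTJ j hjT hj
      have hjj : j * j = 1 := by
        have := (orderOf_two_iff.1 hc2).1
        rwa [e, show j * a * (j * a) = j * (a * j) * a by group, (hac j hjQ).eq,
          show j * (j * a) * a = j * j * (a * a) by group, haa, mul_one] at this
      rcases eq_or_ne j 1 with rfl | hj1
      · exact Or.inl (by rw [e, one_mul])
      · exact Or.inr (by rw [e, h.uniq j hj (orderOf_eq_prime (by rwa [pow_two]) hj1)])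
  -- isolated modulo `⟨v⟩`
  set v' : ↥X := ⟨v, hJX h.mem⟩ with hv'
  set a' : ↥X := ⟨a, haX⟩ with ha'
  have hXC : X ≤ Cz v := sup_le h.le (zpowers_le.2 (mem_Cz'.2 hav))
  haveI : (zpowers v').Normal := ⟨fun n hn g => by
    obtain ⟨i, rfl⟩ := hn
    have hgv : Commute g v' := Subtype.ext (mem_Cz.1 (hXC g.2))
    rw [(hgv.zpow_right i).eq, mul_inv_cancel_right]
    exact zpow_mem_zpowers v' i⟩
  set π := QuotientGroup.mk' (zpowers v') with hπ
  have hker : ∀ x : ↥X, x ∈ zpowers v' → (x : G) = 1 ∨ (x : G) = v := by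
    rintro _ ⟨i, rfl⟩
    rcases Int.even_or_odd i with ⟨m, rfl⟩ | ⟨m, rfl⟩
    · left
      show v ^ (m + m) = 1
      rw [← two_mul, zpow_mul, zpow_two, hvv, one_zpow]
    · right
      show v ^ (2 * m + 1) = v
      rw [zpow_add, zpow_mul, zpow_two, hvv, one_zpow, one_mul, zpow_one]
  have hvT : v' ∈ (T : Subgroup ↥X) := hT (mem_sup_left hvQ)
  have hpa : orderOf (π a') = 2 := by
    refine orderOf_eq_prime ?_ fun e => ?_
    · rw [← map_pow, show a' ^ 2 = 1 from Subtype.ext (by rw [SubgroupClass.coe_pow, pow_two]; exact haa),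
        map_one]
    · rcases hker a' ((QuotientGroup.eq_one_iff _).1 e) with h1 | h1
      · exact (orderOf_two_iff.1 ha2).2 h1
      · exact hav' h1
  set P : Sylow 2 (↥X ⧸ zpowers v') := T.mapSurjective (QuotientGroup.mk'_surjective _) with hP
  have hiso := ZStar.isIsolated_of_sylow (P := P) (t := π a')
    (show π a' ∈ (T : Subgroup ↥X).map π from
      mem_map_of_mem π (hT (mem_sup_right (mem_zpowers a)))) hpa (by
    intro g hg
    obtain ⟨g, rfl⟩ := QuotientGroup.mk'_surjective (zpowers v') g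
    obtain ⟨w, hw, hwe⟩ := (show π g * π a' * (π g)⁻¹ ∈ (T : Subgroup ↥X).map π from hg)
    rw [← map_inv, ← map_mul, ← map_mul] at hwe
    have h2 : g * a' * g⁻¹ ∈ (T : Subgroup ↥X) := by
      have h3 : w⁻¹ * (g * a' * g⁻¹) ∈ zpowers v' := QuotientGroup.eq.1 hwe
      have := mul_mem hw (zpowers_le.2 hvT h3)
      rwa [mul_inv_cancel_left] at this
    rcases hfus g g.2 ⟨g * a' * g⁻¹, h2, rfl⟩ with e | e
    · rw [← map_inv, ← map_mul, ← map_mul, show g * a' * g⁻¹ = a' from Subtype.ext e]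
    · rw [← map_inv, ← map_mul, ← map_mul, show g * a' * g⁻¹ = v' * a' from Subtype.ext e, map_mul,
        show π v' = 1 from (QuotientGroup.eq_one_iff _).2 (mem_zpowers v'), one_mul])
  obtain ⟨N, hN, hNodd, hNc⟩ := ZStar.exists_odd_normal hiso
  set M := (N.comap π).comap (Subgroup.inclusion hJX) with hM
  haveI hMn : M.Normal := (hN.comap π).comap _
  have hcM : ∀ j, ∀ hj : j ∈ J, (⟨⁅a, j⁆, by
      rw [commutatorElement_def]
      exact mul_mem ((mem_normalizer_iff.1 hn j).1 hj) (inv_mem hj)⟩ : ↥J) ∈ M := by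
    intro j hj
    show π _ ∈ N
    have := hNc (π ⟨j, hJX hj⟩)
    rwa [← map_inv, ← map_inv, ← map_mul, ← map_mul, ← map_mul] at this
  haveI := pPrimeCore_isNormal (p := 2) (G := ↥J)
  set ρ := QuotientGroup.mk' (Cfsg.pPrimeCore 2 ↥J)
  haveI : (M.map ρ).Normal := hMn.map ρ (QuotientGroup.mk'_surjective _)
  rcases IsQuasisimple.eq_top_or_le_center (pComponentOf_quotient_quasisimple h.comp) (M.map ρ) with
    e | e
  · -- `Q` would be in `⟨v⟩`
    obtain ⟨x, hx, hxr⟩ := hr.ex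
    have hxM : (⟨x, hQ.1 hx⟩ : ↥J) ∈ M := by
      refine pElement_mem_of_sup (pPrimeCore_coprime (p := 2) (G := ↥J)) ?_
        ((isPGroup_zpowers_coe _).2 (isPGroup_of_mem hQ.2.1 hx))
      have h2 : ρ ⟨x, hQ.1 hx⟩ ∈ M.map ρ := e.symm ▸ mem_top _
      rw [← mem_comap, comap_map_eq, QuotientGroup.ker_mk'] at h2
      exact h2
    have h2 : π ⟨x, hJX (hQ.1 hx)⟩ = 1 := by
      have hp : IsPGroup 2 (zpowers (π ⟨x, hJX (hQ.1 hx)⟩)) := by
        have := (isPGroup_zpowers_sub (hJX (hQ.1 hx)) (isPGroup_of_mem hQ.2.1 hx)).map π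
        rwa [MonoidHom.map_zpowers] at this
      obtain ⟨k, hk⟩ := IsPGroup.iff_card.1 hp
      rw [Nat.card_zpowers] at hk
      exact orderOf_eq_one_iff.1 (Nat.eq_one_of_dvd_coprimes
        ((Nat.coprime_two_right.2 hNodd).pow_right k) (Subgroup.orderOf_dvd_natCard _ hxM) hk.dvd)
    rcases hker _ ((QuotientGroup.eq_one_iff _).1 h2) with h1 | h1
    · exact hxr ((show x = 1 from h1) ▸ one_mem _)
    · refine hxr ?_
      obtain ⟨i, hi⟩ := hr.four
      have h3 : orderOf (r ^ (orderOf r / 2)) = 2 := by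
        rw [orderOf_pow_of_dvd ((Nat.div_pos (Nat.le_of_dvd (orderOf_pos r) (dvd_trans (by norm_num) hr.four)) two_pos).ne') (Dvd.intro 2 (by omega)), Nat.div_div_self
          (dvd_trans (by norm_num) hr.four) (orderOf_pos r).ne']
      rw [show x = v from h1, ← h.uniq _ (hQ.1 (pow_mem hr.mem _)) h3]
      exact npow_mem_zpowers _ _
  · -- trivial action modulo the centre
    refine hnc (h.cent_of_mod_center (mem_Cz'.2 hav) hn fun k hk => ?_)
    obtain ⟨⟨j, hjC⟩, hj, rfl⟩ := hk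
    have hz := mem_center_iff.1 (e (mem_map_of_mem ρ (hcM j hj)))
    rw [mem_centralizer_iff]
    rintro _ ⟨⟨i, hiC⟩, hi, rfl⟩
    obtain ⟨o, ho, hoe⟩ : ∃ o ∈ Cfsg.pPrimeCore 2 ↥J, (o : G) = (i * ⁅a, j⁆)⁻¹ * (⁅a, j⁆ * i) :=
      ⟨_, QuotientGroup.eq.1 (hz (ρ ⟨i, hi⟩)), rfl⟩
    have hoO : (o : G) ∈ Oz v := by
      have h4 := mem_map_of_mem J.subtype ho
      rw [pComponentOf_core h.comp] at h4
      exact h4.2
    rw [hoe] at hoO
    exact (mk_eq_iff _ _).2 hoO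

end Cfsg.Agent.Fus.FundPair
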