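import Cfsg.Agent.Lib.Fus.FundPair.LocalQuat

/-!
The quaternion group of order 8 in `K` and the involutions attached to it.
-/

set_option autoImplicit false
set_option linter.unusedSectionVars false
set_option linter.style.haveILetI false

namespace Cfsg.Agent.Fus.FundPair

open Subgroup Cfsg.Agent.Grp Cfsg.Agent.Invol
open scoped commutatorElement

universe u

variable {G : Type u} [Group G] [Finite G] {v u y g g' x : G} {J K P P₂ : Subgroup G}

/-- The local data in `K`. -/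
structure LocalData (v u : G) (J K : Subgroup G) (y g : G) (P₂ : Subgroup G) (x : G) : Prop where
  pgroup : IsPGroup 2 P₂
  pC : P₂ ≤ Cz u
  vP : v ∈ P₂
  yP : y ∈ P₂
  eP : g * (y * g * y⁻¹) ∈ P₂
  xP : x ∈ P₂
  xK : x ∈ K
  xx : x * x = u
  anti : x * y * x⁻¹ = y⁻¹

theorem MovingData.vP (M : MovingData v u J K y g g' P) : v ∈ P :=
  M.gg ▸ mul_mem M.gP M.gP

theorem MovingData.yv (M : MovingData v u J K y g g' P) : Commute y v := mem_Cz'.1 (M.pC M.yP)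

theorem MovingData.uv (M : MovingData v u J K y g g' P) : Commute u v := by
  rw [← M.yy]; exact M.yv.mul_left M.yv

theorem LocalData.mul_right (L : LocalData v u J K y g P₂ x)
    (hy : y ∈ K) : LocalData v u J K y g P₂ (x * y) where
  pgroup := L.pgroup
  pC := L.pC
  vP := L.vP
  yP := L.yP
  eP := L.eP
  xP := mul_mem L.xP L.yP
  xK := mul_mem L.xK hy
  xx := by
    have h1 : y * x = x * y⁻¹ := by
      have h2 : x * y⁻¹ * x⁻¹ = y := by
        rw [show x * y⁻¹ * x⁻¹ = (x * y * x⁻¹)⁻¹ by group, L.anti, inv_inv]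
      calc y * x = x * y⁻¹ * x⁻¹ * x := by rw [h2]
        _ = x * y⁻¹ := by group
    calc x * y * (x * y) = x * (y * x) * y := by group
      _ = x * x := by rw [h1]; group
      _ = u := L.xx
  anti := by rw [show x * y * y * (x * y)⁻¹ = x * y * x⁻¹ by group, L.anti]

/-- Existence of the local data, with the four-group Sylow subgroup of the simple section. -/
theorem exists_local (hJ : Fund v J) (hK : Fund u K) (hsz : sz J = sz K) (hne : u ≠ v) (hy : y ∈ K)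
    (M : MovingData v u J K y g g' P) (hyN : y ∉ normalizer (J : Set G)) :
    ∃ P₂ x, ∃ hx : x ∈ K, LocalData v u J K y g P₂ x ∧
      ∃ S : Sylow 2 (↥(img u K) ⧸ Subgroup.center ↥(img u K)), IsKleinFour ↥(S : Subgroup (↥(img u K) ⧸ Subgroup.center ↥(img u K))) ∧
        sec hK ⟨y, hy⟩ ∈ S ∧ sec hK ⟨x, hx⟩ ∈ S ∧ sec hK ⟨y, hy⟩ ≠ 1 ∧ sec hK ⟨x, hx⟩ ≠ 1 ∧
          sec hK ⟨y, hy⟩ ≠ sec hK ⟨x, hx⟩ := by
  haveI : Fact (Nat.Prime 2) := ⟨Nat.prime_two⟩
  have hyu : Commute y u := hK.commute_v hy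
  obtain ⟨P₂, hA, hP₂C, hP₂, hmax₂⟩ := exists_max u (M.pgroup.to_le (inf_le_left : P ⊓ Cz u ≤ P))
    inf_le_right
  have hvP₂ : v ∈ P₂ := hA ⟨M.vP, mem_Cz'.2 M.uv.symm⟩
  have hyP₂ : y ∈ P₂ := hA ⟨M.yP, mem_Cz'.2 hyu⟩
  have heP₂ : g * (y * g * y⁻¹) ∈ P₂ :=
    hA ⟨P.mul_mem M.gP (P.mul_mem (P.mul_mem M.yP M.gP) (P.inv_mem M.yP)), mem_Cz'.2 M.eu⟩
  have hR := hK.sylJ_of_max hP₂C hP₂ hmax₂
  obtain ⟨a, ha⟩ := hK.quat hR
  have ha4 : orderOf a = 4 := by
    by_contra h8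
    exact false_of_big hJ hK hsz hne hy M hyN hP₂ hP₂C hmax₂ hvP₂ hyP₂ ha h8
  obtain ⟨x, hxR, hxx, hanti⟩ := ha.anti hK hR ⟨hyP₂, hy⟩ M.yy
  have hx : x ∈ K := hxR.2
  refine ⟨P₂, x, hx, ⟨hP₂, hP₂C, hvP₂, hyP₂, heP₂, hxR.1, hx, hxx, hanti⟩, ?_⟩
  obtain ⟨S₀, hS₀⟩ := hK.exists_sylow hP₂C hP₂ hmax₂
  set S := S₀.mapSurjective (sec_surjective hK) with hS
  set Y := sec hK ⟨y, hy⟩ with hY
  set X := sec hK ⟨x, hx⟩ with hX
  have hmem : ∀ {w : G} (hw : w ∈ K), w ∈ P₂ → sec hK ⟨w, hw⟩ ∈ S := fun {w} hw hwP =>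
    mem_map_of_mem (sec hK) (show (⟨w, hw⟩ : ↥K) ∈ (S₀ : Subgroup ↥K) by rw [hS₀]; exact hwP)
  have hy4 : orderOf y = 4 := by
    refine orderOf_eq_prime_pow (p := 2) (n := 1) ?_ ?_
    · rw [pow_one, pow_two, M.yy]; exact hK.v_ne
    · rw [show (2 : ℕ) ^ (1 + 1) = 2 * 2 from rfl, pow_mul, pow_two y, M.yy, pow_two, hK.vv]
  have hzy : zpowers y ≤ P₂ ⊓ K := zpowers_le.2 ⟨hyP₂, hy⟩
  have hidx : (zpowers y).relIndex (P₂ ⊓ K) = 2 := by
    have h1 := Subgroup.card_mul_index ((zpowers y).subgroupOf (P₂ ⊓ K))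
    have h2 := Subgroup.card_mul_index ((zpowers a).subgroupOf (P₂ ⊓ K))
    rw [Nat.card_congr (subgroupOfEquivOfLe hzy).toEquiv, Nat.card_zpowers, hy4,
      ← Subgroup.relIndex] at h1
    rw [Nat.card_congr (subgroupOfEquivOfLe (zpowers_le.2 ha.mem : zpowers a ≤ P₂ ⊓ K)).toEquiv,
      Nat.card_zpowers, ha4, ← Subgroup.relIndex, ha.index] at h2
    omega
  have hxy : x ∉ zpowers y := by
    rintro ⟨i, hi⟩
    simp only at hi
    have h1 : Commute x y := hi ▸ (Commute.refl y).zpow_left i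
    rw [h1.eq, mul_inv_cancel_right, eq_inv_iff_mul_eq_one, M.yy] at hanti
    exact hK.v_ne hanti
  have huy : u ∈ zpowers y := M.yy ▸ mul_mem (mem_zpowers y) (mem_zpowers y)
  have hY2 : Y * Y = 1 := by
    rw [hY, ← map_mul, show (⟨y, hy⟩ * ⟨y, hy⟩ : ↥K) = ⟨u, hK.mem⟩ from Subtype.ext M.yy, sec_u]
  have hX2 : X * X = 1 := by
    rw [hX, ← map_mul, show (⟨x, hx⟩ * ⟨x, hx⟩ : ↥K) = ⟨u, hK.mem⟩ from Subtype.ext hxx, sec_u]
  have hY1 : Y ≠ 1 := fun e => by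
    rcases sec_two hK hy (isPGroup_of_mem hP₂ hyP₂) e with h | h
    · rw [h, orderOf_one] at hy4; omega
    · rw [h, hK.ord] at hy4; omega
  have hX1 : X ≠ 1 := fun e => by
    rcases sec_two hK hx (isPGroup_of_mem hP₂ hxR.1) e with h | h
    · exact hxy (h ▸ one_mem _)
    · exact hxy (h ▸ huy)
  have hXY : Y ≠ X := fun e => by
    rcases sec_eq_of_two hK hP₂ hy hx hyP₂ hxR.1 e with h | h
    · exact hxy (h ▸ mem_zpowers y)
    · exact hxy (h ▸ mul_mem (mem_zpowers y) huy)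
  have hset : ((S : Subgroup (↥(img u K) ⧸ Subgroup.center ↥(img u K))) :
      Set (↥(img u K) ⧸ Subgroup.center ↥(img u K))) =
      {1, Y, X, X * Y} := by
    ext b
    constructor
    · rintro ⟨⟨w, hw⟩, hwS, rfl⟩
      have hwP : w ∈ P₂ := by
        have h1 : (⟨w, hw⟩ : ↥K) ∈ (S₀ : Subgroup ↥K) := hwS
        rw [hS₀] at h1; exact h1
      have hpow : ∀ i : ℤ, Y ^ i = 1 ∨ Y ^ i = Y := fun i => by
        rcases Int.even_or_odd i with ⟨j, rfl⟩ | ⟨j, rfl⟩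
        · left; rw [← two_mul, zpow_mul, zpow_two, hY2, one_zpow]
        · right; rw [zpow_add, zpow_mul, zpow_two, hY2, one_zpow, one_mul, zpow_one]
      rcases dihedral_cases (D := P₂ ⊓ K) ⟨hxR.1, hx⟩ hidx hxy (⟨hwP, hw⟩ : w ∈ P₂ ⊓ K) with ⟨i, rfl⟩ | ⟨i, rfl⟩
      · rw [show (⟨y ^ i, hw⟩ : ↥K) = ⟨y, hy⟩ ^ i from Subtype.ext rfl, map_zpow]
        rcases hpow i with h | h <;> simp [← hY, h]
      · rw [show (⟨x * y ^ i, hw⟩ : ↥K) = ⟨x, hx⟩ * ⟨y, hy⟩ ^ i from Subtype.ext rfl, map_mul, map_zpow]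
        rcases hpow i with h | h <;> simp [← hY, ← hX, h]
    · rintro (rfl | rfl | rfl | rfl)
      · exact one_mem _
      · exact hmem hy hyP₂
      · exact hmem hx hxR.1
      · exact mul_mem (hmem hx hxR.1) (hmem hy hyP₂)
  have hcard : Nat.card (S : Subgroup (↥(img u K) ⧸ Subgroup.center ↥(img u K))) = 4 := by
    rw [← SetLike.coe_sort_coe, Nat.card_coe_set_eq, hset,
      Set.ncard_insert_of_notMem, Set.ncard_insert_of_notMem, Set.ncard_pair]
    · intro e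
      exact hY1 (mul_eq_left.1 e.symm)
    · rintro (h | h)
      · exact hXY h
      · exact hX1 (mul_eq_right.1 (h : Y = X * Y).symm)
    · rintro (h | h | h)
      · exact hY1 h.symm
      · exact hX1 h.symm
      · have h1 := eq_inv_of_mul_eq_one_left (h : (1 : _) = X * Y).symm
        rw [inv_eq_of_mul_eq_one_left hY2] at h1
        exact hXY h1.symm
  refine ⟨S, ⟨hcard, ?_⟩, hmem hy hyP₂, hmem hx hxR.1, hY1, hX1, hXY⟩
  haveI : Nontrivial (S : Subgroup (↥(img u K) ⧸ Subgroup.center ↥(img u K))) :=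
    ⟨⟨⟨Y, hmem hy hyP₂⟩, 1, fun e => hY1 (congrArg Subtype.val e)⟩⟩
  refine (Monoid.exponent_eq_prime_iff Nat.prime_two).2 fun w hw1 => ?_
  refine orderOf_eq_prime (Subtype.ext ?_) hw1
  rw [SubgroupClass.coe_pow, pow_two]
  show (w : ↥(img u K) ⧸ Subgroup.center ↥(img u K)) * w = 1
  obtain ⟨⟨z, hz⟩, hzS, hzw⟩ := w.2
  have hzP : z ∈ P₂ := by
    have h1 : (⟨z, hz⟩ : ↥K) ∈ (S₀ : Subgroup ↥K) := hzS
    rw [hS₀] at h1; exact h1
  rw [← hzw, ← map_mul]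
  rcases dihedral_cases (D := P₂ ⊓ K) ⟨hxR.1, hx⟩ hidx hxy (⟨hzP, hz⟩ : z ∈ P₂ ⊓ K) with ⟨i, rfl⟩ | ⟨i, rfl⟩
  · rw [show (⟨y ^ i, hz⟩ * ⟨y ^ i, hz⟩ : ↥K) = (⟨y, hy⟩ * ⟨y, hy⟩) ^ i from
      Subtype.ext (show y ^ i * y ^ i = (y * y) ^ i from ((Commute.refl y).mul_zpow i).symm), map_zpow,
      map_mul, ← hY, hY2, one_zpow]
  · have e : x * y ^ i * (x * y ^ i) = u := by
      have h1 : x * y ^ i * x⁻¹ = (y ^ i)⁻¹ := by rw [← conj_zpow, hanti, inv_zpow]
      calc x * y ^ i * (x * y ^ i) = x * y ^ i * x⁻¹ * (x * x) * y ^ i := by group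
        _ = (y ^ i)⁻¹ * (u * y ^ i) := by rw [h1, hxx]; group
        _ = u := by rw [(hyu.zpow_left i).eq.symm, inv_mul_cancel_left]
    rw [show (⟨x * y ^ i, hz⟩ * ⟨x * y ^ i, hz⟩ : ↥K) = ⟨u, hK.mem⟩ from Subtype.ext e, sec_u]

/-- The involution `x x'`. -/
structure PairData (v u : G) (K : Subgroup G) (y x e p : G) : Prop where
  eq : p = x * (e * x * e⁻¹)
  pp : p * p = 1
  p1 : p ≠ 1
  pu : Commute p u
  pv : Commute p v
  pe : Commute p e
  xp : Commute x p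
  ypy : y * p * y⁻¹ = u * p
  xvx : x * v * x⁻¹ = u * v
  xex : x * e * x⁻¹ = p * u * e
  flip : x * y * (e * (x * y) * e⁻¹) = p * u * v

theorem LocalData.pair (hK : Fund u K) (hy : y ∈ K) (M : MovingData v u J K y g g' P)
    (L : LocalData v u J K y g P₂ x) :
    PairData v u K y x (g * (y * g * y⁻¹))
      (x * (g * (y * g * y⁻¹) * x * (g * (y * g * y⁻¹))⁻¹)) := by
  haveI : Fact (Nat.Prime 2) := ⟨Nat.prime_two⟩
  set e := g * (y * g * y⁻¹) with he
  set x' := e * x * e⁻¹ with hx'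
  set p := x * x' with hp
  have hee : e * e = 1 := M.ee
  have heinv : e⁻¹ = e := inv_eq_of_mul_eq_one_left hee
  have heu : Commute e u := M.eu
  have hK' := hK.conj_mem (mem_Cz'.2 heu)
  have hKK : K ≠ K.map (MulAut.conj e).toMonoidHom := fun h1 => M.eK (conj_eq_self_iff.1 h1.symm)
  have hP := L.pgroup
  have hx'P : x' ∈ P₂ := mul_mem (mul_mem L.eP L.xP) (inv_mem L.eP)
  have hx'K : x' ∈ K.map (MulAut.conj e).toMonoidHom := ⟨x, L.xK, rfl⟩
  have hy'K : v * y ∈ K.map (MulAut.conj e).toMonoidHom := ⟨y, hy, M.eye⟩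
  have cxx' : Commute x x' := commute_in hK hK' hKK hP L.xK hx'K L.xP hx'P
  have cyx' : Commute y x' := commute_in hK hK' hKK hP hy hx'K L.yP hx'P
  have cxy' : Commute x (v * y) := commute_in hK hK' hKK hP L.xK hy'K L.xP (mul_mem L.vP L.yP)
  have hyu : Commute y u := hK.commute_v hy
  have hxu : Commute x u := hK.commute_v L.xK
  have hx'x' : x' * x' = u := by
    rw [hx', show e * x * e⁻¹ * (e * x * e⁻¹) = e * (x * x) * e⁻¹ by group, L.xx, heu.eq,
      mul_inv_cancel_right]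
  have hxinv : x⁻¹ = u * x :=
    inv_eq_of_mul_eq_one_left (by rw [mul_assoc, L.xx, hK.vv])
  have hx'inv : x'⁻¹ = u * x' :=
    inv_eq_of_mul_eq_one_left (by rw [mul_assoc, hx'x', hK.vv])
  have hpp : p * p = 1 := by
    rw [hp, show x * x' * (x * x') = x * (x' * x) * x' by group, ← cxx'.eq,
      show x * (x * x') * x' = x * x * (x' * x') by group, L.xx, hx'x', hK.vv]
  have hyxy : y * x * y⁻¹ = u * x := by
    have h1 : x * y⁻¹ * x⁻¹ = y := by
      rw [show x * y⁻¹ * x⁻¹ = (x * y * x⁻¹)⁻¹ by group, L.anti, inv_inv]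
    calc y * x * y⁻¹ = x * y⁻¹ * x⁻¹ * x * y⁻¹ := by rw [h1]
      _ = x * (y * y)⁻¹ := by group
      _ = u * x := by rw [M.yy, hK.v_inv, hxu.eq]
  have hxvx : x * v * x⁻¹ = u * v := by
    calc x * v * x⁻¹ = x * (v * y) * x⁻¹ * (x * y * x⁻¹)⁻¹ := by group
      _ = v * y * y := by rw [L.anti, inv_inv, cxy'.eq, mul_inv_cancel_right]
      _ = u * v := by rw [mul_assoc, M.yy, M.uv.eq]
  have hvxv : v * x * v⁻¹ = u * x := by
    have h1 : x * v = u * v * x := by rw [← hxvx, inv_mul_cancel_right]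
    have h2 : v * x = u * (x * v) := by
      rw [h1, show u * (u * v * x) = u * u * (v * x) by group, hK.vv, one_mul]
    rw [h2, show u * (x * v) * v⁻¹ = u * x by group]
  have hve : Commute v e := M.ev.symm
  refine ⟨rfl, hpp, ?_, ?_, ?_, ?_, (Commute.refl x).mul_right cxx', ?_, hxvx, ?_, ?_⟩
  · intro h1
    rw [eq_inv_of_mul_eq_one_left h1] at *
    refine hKK (hK.eq_of_mem hK' L.xK (inv_mem hx'K) (isPGroup_of_mem hP L.xP) ?_)
    rw [L.xx]; exact hK.v_ne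
  · exact hxu.mul_left (hK'.commute_v hx'K)
  · refine (mul_inv_eq_iff_eq_mul.1 ?_ : v * p = p * v).symm
    have h2 : v * x' * v⁻¹ = u * x' := by
      calc v * x' * v⁻¹ = (v * e) * x * (v * e)⁻¹ := by rw [hx']; group
        _ = e * (v * x * v⁻¹) * e⁻¹ := by rw [hve.eq]; group
        _ = e * u * (x * e⁻¹) := by rw [hvxv]; group
        _ = u * x' := by rw [heu.eq, hx']; group
    calc v * (x * x') * v⁻¹ = v * x * v⁻¹ * (v * x' * v⁻¹) := by group
      _ = u * (x * u) * x' := by rw [hvxv, h2]; group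
      _ = p := by rw [hxu.eq, show u * (u * x) * x' = u * u * (x * x') by group, hK.vv, one_mul, hp]
  · refine (mul_inv_eq_iff_eq_mul.1 ?_ : e * p = p * e).symm
    calc e * (x * x') * e⁻¹ = x' * ((e * e) * x * (e * e)⁻¹) := by rw [hx']; group
      _ = p := by rw [hee, one_mul, inv_one, mul_one, hp, cxx'.eq]
  · rw [show y * (x * x') * y⁻¹ = y * x * y⁻¹ * (y * x' * y⁻¹) by group, hyxy, cyx'.eq,
      mul_inv_cancel_right, mul_assoc]
  · calc x * e * x⁻¹ = x * (e * x⁻¹ * e⁻¹) * e := by group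
      _ = x * x'⁻¹ * e := by rw [hx']; group
      _ = p * u * e := by
          rw [hp, hx'inv, ← (hK'.commute_v hx'K).eq]; simp only [mul_assoc]
  · have cy : Commute y x' := cyx'
    calc x * y * (e * (x * y) * e⁻¹) = x * y * (x' * (e * y * e⁻¹)) := by rw [hx']; group
      _ = x * (y * x') * (v * y) := by rw [M.eye]; group
      _ = x * x' * (y * v) * y := by rw [cy.eq]; group
      _ = p * (v * (y * y)) := by rw [M.yv.eq, hp]; group
      _ = p * u * v := by rw [M.yy, ← M.uv.eq, ← mul_assoc]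

end Cfsg.Agent.Fus.FundPair
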