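import Cfsg.Agent.Lib.Fus.FundPair.Sec
import Cfsg.Agent.Lib.Fus.FundPair.Fusion

/-!
If some 2-element of `K` centralizing `v` moves `J`, the Sylow 2-subgroups of `K` have order 8.
-/

set_option autoImplicit false
set_option linter.unusedSectionVars false
set_option linter.style.haveILetI false

namespace Cfsg.Agent.Fus.FundPair

open Subgroup Cfsg.Agent.Grp Cfsg.Agent.Invol
open scoped commutatorElement

universe u

variable {G : Type u} [Group G] [Finite G] {v u y g g' : G} {J K P : Subgroup G}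

theorem isPGroup_sup_commute {a b : G} (ha : IsPGroup 2 (zpowers a)) (hb : IsPGroup 2 (zpowers b))
    (h : Commute a b) : IsPGroup 2 (zpowers a ⊔ zpowers b : Subgroup G) := by
  haveI : Fact (Nat.Prime 2) := ⟨Nat.prime_two⟩
  refine ha.to_sup_of_normal_left' hb (zpowers_le.2 (centralizer_le_normalizer _ ?_))
  rw [mem_centralizer_iff]
  rintro _ ⟨i, rfl⟩
  exact (h.zpow_left i).eq

theorem qz_eq_one {x : G} (hx : x ∈ Cz u) (h2 : IsPGroup 2 (zpowers x)) (h : qz hx = 1) : x = 1 :=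
  eq_one_of_mem_Oz ((mem_Oz_iff hx).2 ((QuotientGroup.eq_one_iff _).1 h)) h2

/-- A cyclic 2-subgroup of order at least 8 gives a moving element of order at least 8. -/
theorem false_of_big (hJ : Fund v J) (hK : Fund u K) (hsz : sz J = sz K) (hne : u ≠ v) (hy : y ∈ K)
    (M : MovingData v u J K y g g' P) (hyN : y ∉ normalizer (J : Set G)) {P₂ : Subgroup G}
    (hP₂ : IsPGroup 2 P₂) (hP₂C : P₂ ≤ Cz u)
    (hmax₂ : ∀ Q : Subgroup G, Q ≤ Cz u → IsPGroup 2 Q → P₂ ≤ Q → Q = P₂) (hvP₂ : v ∈ P₂)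
    (hyP₂ : y ∈ P₂) {a : G} (ha : Quat u (P₂ ⊓ K) a) (h8 : ¬ orderOf a = 4) : False := by
  haveI : Fact (Nat.Prime 2) := ⟨Nat.prime_two⟩
  have haK : a ∈ K := ha.mem.2
  have haP : a ∈ P₂ := ha.mem.1
  have ha2 : IsPGroup 2 (zpowers a) := isPGroup_of_mem hP₂ haP
  obtain ⟨k, hk⟩ := IsPGroup.iff_card.1 ha2
  rw [Nat.card_zpowers] at hk
  have hk3 : 3 ≤ k := by
    have h1 := ha.four
    rw [hk] at h1
    have h2 : 2 ≤ k := (Nat.pow_dvd_pow_iff_le_right (by norm_num : 1 < 2)).1 h1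
    rcases Nat.lt_or_ge k 3 with h | h
    · exact absurd (by rw [hk, show k = 2 by omega]; rfl) h8
    · exact h
  obtain ⟨k, rfl⟩ : ∃ k', k = k' + 3 := ⟨k - 3, by omega⟩
  have hyC : y ∈ Cz u := hP₂C hyP₂
  set qy := qz hyC with hqy
  set qa := qz (hK.le haK) with hqa
  -- a conjugate of `a` with `y` among its powers modulo the core
  obtain ⟨r, hr, hr2, hqr, i, hi⟩ : ∃ r, ∃ hr : r ∈ K, IsPGroup 2 (zpowers r) ∧
      (∀ n : ℕ, qz (hK.le hr) ^ n = 1 → qa ^ n = 1) ∧ ∃ i : ℤ, qz (hK.le hr) ^ i = qy := by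
    by_cases hya : y ∈ zpowers a
    · obtain ⟨i, rfl⟩ := hya
      exact ⟨a, haK, ha2, fun n h => h, i, by rw [hqy, ← map_zpow]; rfl⟩
    obtain ⟨hinv, -⟩ := (ha.out y ⟨hyP₂, hy⟩).resolve_left hya
    obtain ⟨S₀, hS₀⟩ := hK.exists_sylow hP₂C hP₂ hmax₂
    set S := S₀.mapSurjective (sec_surjective hK) with hS
    set c := sec hK ⟨a, haK⟩ with hc
    set yb := sec hK ⟨y, hy⟩ with hyb
    have hSmem : ∀ {x : G} (hx : x ∈ K), x ∈ P₂ → sec hK ⟨x, hx⟩ ∈ S := fun {x} hx hxP =>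
      mem_map_of_mem (sec hK) (show (⟨x, hx⟩ : ↥K) ∈ (S₀ : Subgroup ↥K) by rw [hS₀]; exact hxP)
    have hpu : ∀ j : ℕ, a ^ j = u → c ^ j = 1 := fun j hj => by
      rw [hc, ← map_pow, show (⟨a, haK⟩ : ↥K) ^ j = ⟨u, hK.mem⟩ from Subtype.ext hj, sec_u]
    have hau : a ^ (2 ^ (k + 2)) = u := by
      refine hK.uniq _ (pow_mem haK _) ?_
      rw [orderOf_pow_of_dvd (by positivity) (hk ▸ pow_dvd_pow 2 (by omega)), hk,
        Nat.pow_div (by omega) two_pos, show k + 3 - (k + 2) = 1 by omega, pow_one]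
    have hco : orderOf c = 2 ^ (k + 2) := by
      refine orderOf_eq_prime_pow ?_ (hpu _ hau)
      intro h1
      rw [hc, ← map_pow] at h1
      have h4 : orderOf (a ^ (2 ^ (k + 1))) = 4 := by
        rw [orderOf_pow_of_dvd (by positivity) (hk ▸ pow_dvd_pow 2 (by omega)), hk,
          Nat.pow_div (by omega) two_pos, show k + 3 - (k + 1) = 2 by omega]
        rfl
      rcases sec_two hK (pow_mem haK _) (isPGroup_of_mem hP₂ (pow_mem haP _)) h1 with e | e
      · rw [e, orderOf_one] at h4; omega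
      · rw [e, hK.ord] at h4; omega
    have huA : u ∈ zpowers a := hau ▸ npow_mem_zpowers a _
    have hnot : ∀ {x : G} (hx : x ∈ K), x ∈ P₂ → x ∉ zpowers a → sec hK ⟨x, hx⟩ ∉ zpowers c := by
      rintro x hx hxP hxa ⟨i, hi⟩
      refine hxa ?_
      simp only at hi
      rw [hc, ← map_zpow] at hi
      rcases sec_eq_of_two hK hP₂ (zpow_mem haK i) hx (zpow_mem haP i) hxP hi with e | e
      · exact e ▸ zpow_mem_zpowers a i
      · exact e ▸ mul_mem (zpow_mem_zpowers a i) huA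
    have hin : ∀ {x : G} (hx : x ∈ K), x ∈ zpowers a → sec hK ⟨x, hx⟩ ∈ zpowers c := by
      rintro x hx ⟨i, rfl⟩
      rw [show (⟨(fun i => a ^ i) i, hx⟩ : ↥K) = ⟨a, haK⟩ ^ i from Subtype.ext rfl, map_zpow]
      exact zpow_mem_zpowers c i
    have hyy1 : yb * yb = 1 := by
      rw [hyb, ← map_mul, show (⟨y, hy⟩ * ⟨y, hy⟩ : ↥K) = ⟨u, hK.mem⟩ from Subtype.ext M.yy, sec_u]
    have hidx : (zpowers c).relIndex (S : Subgroup _) = 2 := by
      rw [Subgroup.relIndex, Subgroup.index_eq_two_iff]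
      refine ⟨⟨yb, hSmem hy hyP₂⟩, fun b => ?_⟩
      obtain ⟨⟨x, hx⟩, hxS, hxb⟩ := b.2
      have hxP : x ∈ P₂ := by
        have h1 : (⟨x, hx⟩ : ↥K) ∈ (S₀ : Subgroup ↥K) := hxS
        rw [hS₀] at h1; exact h1
      simp only [mem_subgroupOf, coe_mul]
      rw [← hxb, hyb, ← map_mul]
      by_cases hxa : x ∈ zpowers a
      · refine Or.inr ⟨hin hx hxa, hnot _ (mul_mem hxP hyP₂) fun h1 => hya ?_⟩
        simpa using mul_mem (inv_mem hxa) h1
      · refine Or.inl ⟨hin _ ?_, hnot hx hxP hxa⟩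
        exact (Subgroup.mul_mem_iff_of_index_two (H := (zpowers a).subgroupOf (P₂ ⊓ K)) ha.index
          (a := ⟨x, hxP, hx⟩) (b := ⟨y, hyP₂, hy⟩)).2 (iff_of_false hxa hya)
    obtain ⟨kb, hkb⟩ := fused_dihedral (sec_no_index_two hK) S (hSmem haK haP) (hSmem hy hyP₂)
      (by rw [hco]; exact ⟨2 ^ k, by ring⟩) hyy1
      (by
        rw [← map_inv, ← map_inv, ← map_mul, ← map_mul]
        exact congrArg _ (Subtype.ext hinv)) hidx (hnot hy hyP₂ hya)
    obtain ⟨kk, rfl⟩ := sec_surjective hK kb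
    obtain ⟨i, hi⟩ := hkb
    simp only at hi
    rw [← map_inv, ← map_mul, ← map_mul, ← map_zpow] at hi
    have hq : qz (hK.le (kk * ⟨y, hy⟩ * kk⁻¹ : ↥K).2) ∈ zpowers qa := by
      have hau' : qz (hK.le hK.mem) ∈ zpowers qa := ⟨((2 ^ (k + 2) : ℕ) : ℤ), by
        simp only [zpow_natCast]
        rw [hqa, ← map_pow]
        exact congrArg _ (Subtype.ext hau)⟩
      have hai : qz (hK.le ((⟨a, haK⟩ : ↥K) ^ i).2) = qa ^ i := by
        rw [hqa, ← map_zpow]; rfl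
      rcases sec_eq hK hi with e | e
      · exact e ▸ hai ▸ zpow_mem_zpowers qa i
      · exact e ▸ hai ▸ mul_mem (zpow_mem_zpowers qa i) hau'
    obtain ⟨i', hi'⟩ := hq
    simp only at hi'
    have hkC : (kk : G) ∈ Cz u := hK.le kk.2
    refine ⟨(kk : G)⁻¹ * a * kk, mul_mem (mul_mem (inv_mem kk.2) haK) kk.2,
      Invol.isPGroup_zpowers (n := k + 3) (by
        have := Invol.orderOf_conj_eq (kk : G)⁻¹ a
        rw [inv_inv] at this
        rw [this, hk]), ?_, i', ?_⟩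
    · intro n hn
      rw [show qz (hK.le (mul_mem (mul_mem (inv_mem kk.2) haK) kk.2)) = (qz hkC)⁻¹ * qa * (qz hkC)⁻¹⁻¹
        by rw [inv_inv, hqa, ← map_inv, ← map_mul, ← map_mul]; rfl, conj_pow] at hn
      exact (mul_eq_left (a := (qz hkC)⁻¹)).1 (mul_inv_eq_one.1 hn)
    · rw [show qz (hK.le (mul_mem (mul_mem (inv_mem kk.2) haK) kk.2)) = (qz hkC)⁻¹ * qa * (qz hkC)⁻¹⁻¹
        by rw [inv_inv, hqa, ← map_inv, ← map_mul, ← map_mul]; rfl, conj_zpow, hi',
        show qz (hK.le (kk * ⟨y, hy⟩ * kk⁻¹ : ↥K).2) = qz hkC * qy * (qz hkC)⁻¹ by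
          rw [hqy, ← map_inv, ← map_mul, ← map_mul]; rfl]
      group
  -- lift it
  set qr := qz (hK.le hr) with hqrdef
  have hvC : v ∈ Cz u := hP₂C hvP₂
  have heC : g * (y * g * y⁻¹) ∈ Cz u := mem_Cz'.2 M.eu
  have hK' := hK.conj_mem heC
  have hKK : K ≠ K.map (MulAut.conj (g * (y * g * y⁻¹))).toMonoidHom := fun h1 =>
    M.eK (conj_eq_self_iff.1 h1.symm)
  have hcy : Commute qr qy := hi ▸ (Commute.refl qr).zpow_right i
  have hcv : Commute qr (qz hvC) := by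
    have hy'K : v * y ∈ K.map (MulAut.conj (g * (y * g * y⁻¹))).toMonoidHom := ⟨y, hy, M.eye⟩
    have h1 : Commute qr (qz (hK'.le hy'K)) :=
      (mem_centralizer_iff.1 (IsComponent.commute hK.img_comp hK'.img_comp
        (fun e => hKK (img_inj hK hK' e)) (mem_img hr _)) _ (mem_img hy'K _)).symm
    have h2 : qz hvC = qz (hK'.le hy'K) * qy⁻¹ := by
      rw [hqy, ← map_inv, ← map_mul]
      exact congrArg _ (Subtype.ext (show v = v * y * y⁻¹ by group))
    exact h2 ▸ h1.mul_right hcy.inv_right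
  set T := ((centralizer ({qr} : Set _)).comap
    (QuotientGroup.mk' (Cfsg.pPrimeCore 2 ↥(Cz u)))).map (Cz u).subtype with hT
  have hAT : zpowers y ⊔ zpowers v ≤ T := by
    refine sup_le (zpowers_le.2 ⟨⟨y, hyC⟩, ?_, rfl⟩) (zpowers_le.2 ⟨⟨v, hvC⟩, ?_, rfl⟩)
    · exact mem_centralizer_singleton_iff.2 hcy.eq.symm
    · exact mem_centralizer_singleton_iff.2 hcv.eq.symm
  obtain ⟨s, hs, hs2, hrs, hsc⟩ := hK.exists_lift
    (hP₂.to_le (sup_le (zpowers_le.2 hyP₂) (zpowers_le.2 hvP₂))) (hAT.trans (map_subtype_le _)) hr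
    hr2 (by
      intro b hb
      obtain ⟨⟨b', hbC⟩, hb', rfl⟩ := hAT hb
      have hcb : Commute (qz hbC) qr := mem_centralizer_singleton_iff.1 hb'
      show ⁅r, b'⁆ ∈ Oz u
      have hm : ⁅r, b'⁆ ∈ Cz u := by
        rw [commutatorElement_def]
        exact mul_mem (mul_mem (mul_mem (hK.le hr) hbC) (inv_mem (hK.le hr))) (inv_mem hbC)
      rw [mem_Oz_iff hm]
      refine (QuotientGroup.eq_one_iff _).1 ?_
      show QuotientGroup.mk' (Cfsg.pPrimeCore 2 ↥(Cz u)) ⁅(⟨r, hK.le hr⟩ : ↥(Cz u)), ⟨b', hbC⟩⁆ = 1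
      rw [map_commutatorElement, commutatorElement_eq_one_iff_mul_comm]
      exact hcb.eq.symm)
  have hys : Commute y s := hsc y (mem_sup_left (mem_zpowers y))
  have hvs : Commute v s := hsc v (mem_sup_right (mem_zpowers v))
  have hqs : qz (hK.le hs) = qr := ((mk_eq_iff (hK.le hr) (hK.le hs)).2 hrs).symm
  have hy_s : y ∈ zpowers s := by
    refine ⟨i, (eq_of_cong (v := u) (isPGroup_sup_commute hs2 (isPGroup_of_mem hP₂ hyP₂) hys.symm)
      (mem_sup_left (zpow_mem_zpowers s i)) (mem_sup_right (mem_zpowers y)) ?_)⟩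
    refine (mk_eq_iff (zpow_mem (hK.le hs) i) hyC).1 ?_
    show qz (zpow_mem (hK.le hs) i) = qy
    rw [← hi, ← hqs, ← map_zpow]; rfl
  have hsN : s ∉ normalizer (J : Set G) := fun hn => hyN (zpowers_le.2 hn hy_s)
  have hpow : ∀ n : ℕ, s ^ n = 1 → a ^ n = 1 := fun n hn => by
    refine qz_eq_one (pow_mem (hK.le haK) n) (isPGroup_of_mem hP₂ (pow_mem haP n)) ?_
    have h1 : qr ^ n = 1 := by
      rw [← hqs, ← map_pow]
      exact (congrArg _ (Subtype.ext hn)).trans (map_one _)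
    show qz (pow_mem (hK.le haK) n) = 1
    rw [← hqr n h1, hqa, ← map_pow]; rfl
  have hn8 : ¬ a ^ 4 = 1 := fun h1 => by
    have h2 := orderOf_dvd_of_pow_eq_one h1
    rw [hk] at h2
    have h3 := Nat.le_of_dvd (by norm_num) h2
    have : 8 ≤ 2 ^ (k + 3) := le_trans (by norm_num) (Nat.pow_le_pow_right two_pos (Nat.le_add_left 3 k))
    omega
  have hss : s * s ≠ 1 := fun h1 => hn8 (by
    rw [show (4 : ℕ) = 2 * 2 from rfl, pow_mul, hpow 2 (by rwa [pow_two]), one_pow])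
  have hsu := moving_sq hJ hK hsz hne hs hs2 hss hvs.symm hsN
  refine hn8 (hpow 4 ?_)
  rw [show (4 : ℕ) = 2 * 2 from rfl, pow_mul, pow_two s, hsu, pow_two, hK.vv]

end Cfsg.Agent.Fus.FundPair
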