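import Cfsg.Agent.Lib.Fus.FundPair.Norm

/-!
A 2-element of `K` centralizing `v` and moving `J` squares to the involution of `K`.
-/

set_option autoImplicit false
set_option linter.unusedSectionVars false
set_option linter.style.haveILetI false

namespace Cfsg.Agent.Fus.FundPair

open Subgroup Cfsg.Agent.Grp Cfsg.Agent.Invol
open scoped commutatorElement

universe u

variable {G : Type u} [Group G] [Finite G] {v u : G} {J K : Subgroup G}

/-- The configuration attached to a 2-element `y` of `K` moving `J`. -/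
structure MovingData (v u : G) (J K : Subgroup G) (y g g' : G) (P : Subgroup G) : Prop where
  pgroup : IsPGroup 2 P
  pC : P ≤ Cz v
  yP : y ∈ P
  gP : g ∈ P
  gJ : g ∈ J
  g'P : g' ∈ P
  g'J : g' ∈ J
  gg : g * g = v
  anti : g' * g * g'⁻¹ = g⁻¹
  ugu : u * g * u⁻¹ = g⁻¹
  uJ : u ∈ normalizer (J : Set G)
  ncent : ¬ Cent u v K
  e1 : g * (y * g * y⁻¹) ≠ 1
  ee : g * (y * g * y⁻¹) * (g * (y * g * y⁻¹)) = 1
  eu : Commute (g * (y * g * y⁻¹)) u
  ev : Commute (g * (y * g * y⁻¹)) v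
  eK : g * (y * g * y⁻¹) ∉ normalizer (K : Set G)
  eye : g * (y * g * y⁻¹) * y * (g * (y * g * y⁻¹))⁻¹ = v * y
  yy : y * y = u

theorem Fund.commute_of_two (hK : Fund u K) {y : G} (hy : y ∈ K) (hy2 : IsPGroup 2 (zpowers y))
    (hy1 : y ≠ 1) (hyv : Commute y v) : Commute u v := by
  obtain ⟨i, rfl⟩ := hK.mem_zpowers hy hy2 hy1
  exact hyv.zpow_left i

/-- The configuration exists. -/
theorem exists_moving (hJ : Fund v J) (hK : Fund u K) (hsz : sz J = sz K) (hne : u ≠ v) {y : G}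
    (hy : y ∈ K) (hy2 : IsPGroup 2 (zpowers y)) (hyy : y * y ≠ 1) (hyv : Commute y v)
    (hmove : y ∉ normalizer (J : Set G)) : ∃ g g' P, MovingData v u J K y g g' P := by
  haveI : Fact (Nat.Prime 2) := ⟨Nat.prime_two⟩
  have hy1 : y ≠ 1 := fun e => hyy (by rw [e, one_mul])
  have huv : Commute u v := hK.commute_of_two hy hy2 hy1 hyv
  have hyu : Commute y u := hK.commute_v hy
  have hvN : v ∈ normalizer (K : Set G) :=
    conj_eq_self_iff.1 ((hK.conj_mem (mem_Cz'.2 huv.symm)).eq_of_mem hK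
      (mem_map_conj.2 (by rw [mul_assoc, hyv.eq, inv_mul_cancel_left]; exact hy)) hy hy2 hyy)
  have hnc : ¬ Cent u v K := fun hC => hmove ((mutual_cent hJ hK hsz huv hC).2.2 y hy hy2 hyv)
  have hnc' : ¬ Cent v u J := fun hC => hnc (mutual_cent hK hJ hsz.symm huv.symm hC).2.1
  have huJ : u ∈ normalizer (J : Set G) := normalizer_symm hJ hK hsz hvN
  obtain ⟨P, hAP, hPC, hP, hmax⟩ := exists_max v hy2 (zpowers_le.2 (mem_Cz'.2 hyv))
  have hyP : y ∈ P := hAP (Subgroup.mem_zpowers y)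
  have huP : u ∈ P := hAP (hK.mem_zpowers hy hy2 hy1)
  have hQ := hJ.sylJ_of_max hPC hP hmax
  have huQ : u ∈ normalizer ((P ⊓ J : Subgroup G) : Set G) :=
    inf_normalizer_le_normalizer_inf ⟨Subgroup.le_normalizer huP, huJ⟩
  obtain ⟨g, hgQ, hgg, hug⟩ := exists_inverted hJ hQ hK.ord huv huJ huQ hnc'
  obtain ⟨a, ha⟩ := hJ.quat hQ
  obtain ⟨g', hg'Q, -, hanti⟩ := ha.anti hJ hQ hgQ hgg
  have hug' : u * g * u⁻¹ = g⁻¹ := by rw [hK.v_inv]; exact hug
  have hgP : g ∈ P := hgQ.1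
  have hgJ : g ∈ J := hgQ.2
  have hg2 : IsPGroup 2 (zpowers g) := isPGroup_of_mem hP hgP
  have hg1 : g * g ≠ 1 := hgg.symm ▸ hJ.v_ne
  have hJ1 := hJ.conj_mem (mem_Cz'.2 hyv)
  have hne1 : J ≠ J.map (MulAut.conj y).toMonoidHom := fun e => hmove (conj_eq_self_iff.1 e.symm)
  set g₁ := y * g * y⁻¹ with hg₁
  have hg₁J : g₁ ∈ J.map (MulAut.conj y).toMonoidHom := ⟨g, hgJ, rfl⟩
  have hg₁P : g₁ ∈ P := mul_mem (mul_mem hyP hgP) (inv_mem hyP)
  have hc1 : Commute g g₁ := commute_in hJ hJ1 hne1 hP hgJ hg₁J hgP hg₁P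
  have hvy : y * v * y⁻¹ = v := by rw [hyv.eq, mul_inv_cancel_right]
  have hg₁g₁ : g₁ * g₁ = v := by
    rw [hg₁, show y * g * y⁻¹ * (y * g * y⁻¹) = y * (g * g) * y⁻¹ by group, hgg, hvy]
  set e := g * g₁ with he
  have hee : e * e = 1 := by
    rw [he, show g * g₁ * (g * g₁) = g * (g₁ * g) * g₁ by group, ← hc1.eq,
      show g * (g * g₁) * g₁ = g * g * (g₁ * g₁) by group, hgg, hg₁g₁, hJ.vv]
  have he1 : e ≠ 1 := by
    intro h1
    refine hne1 (hJ.eq_of_mem hJ1 hgJ ?_ hg2 hg1)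
    rw [eq_inv_of_mul_eq_one_left h1]
    exact inv_mem hg₁J
  have heinv : e⁻¹ = e := inv_eq_of_mul_eq_one_left hee
  have heP : e ∈ P := mul_mem hgP hg₁P
  have hev : Commute e v := mem_Cz'.1 (hPC heP)
  have heu : Commute e u := by
    refine (mul_inv_eq_iff_eq_mul.1 ?_ : u * e = e * u).symm
    have h1 : u * g₁ * u⁻¹ = g₁⁻¹ := by
      rw [hg₁, show u * (y * g * y⁻¹) * u⁻¹ = (u * y) * g * (u * y)⁻¹ by group, ← hyu.eq,
        show y * u * g * (y * u)⁻¹ = y * (u * g * u⁻¹) * y⁻¹ by group, hug']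
      group
    calc u * e * u⁻¹ = u * g * u⁻¹ * (u * g₁ * u⁻¹) := by rw [he]; group
      _ = (g₁ * g)⁻¹ := by rw [hug', h1]; group
      _ = e := by rw [← hc1.eq, ← he, heinv]
  set t := y * y with ht
  set g₂ := t * g * t⁻¹ with hg₂
  have htP : t ∈ P := mul_mem hyP hyP
  have hg₂P : g₂ ∈ P := mul_mem (mul_mem htP hgP) (inv_mem htP)
  have hu_t : u ∈ zpowers t := hK.mem_zpowers (mul_mem hy hy)
    (isPGroup_of_mem hP htP) hyy
  have hne_g : g⁻¹ ≠ g := fun h1 => hg1 (by rw [← mul_inv_cancel g, h1])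
  -- `u` moves whatever `t` moves
  have hufix : t * g * t⁻¹ ≠ g := by
    intro h1
    obtain ⟨i, hi⟩ := hu_t
    have h2 : Commute t g := mul_inv_eq_iff_eq_mul.1 h1
    refine hne_g ?_
    rw [← hug', ← hi, (h2.zpow_left i).eq, mul_inv_cancel_right]
  set z := e * (y * e * y⁻¹) with hz
  have hy₁ : y * g₁ * y⁻¹ = g₂ := by rw [hg₁, hg₂, ht]; group
  have hzv : z = v * g * g₂ := by
    calc z = g * g₁ * ((y * g * y⁻¹) * (y * g₁ * y⁻¹)) := by rw [hz, he]; group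
      _ = g * (g₁ * g₁) * g₂ := by rw [hy₁, ← hg₁]; group
      _ = v * g * g₂ := by rw [hg₁g₁, (hJ.commute_v hgJ).eq]
  have hz1 : z ≠ 1 := by
    intro h1
    rw [hzv, mul_assoc] at h1
    have h2 : g * g₂ = g * g := by rw [hgg, ← hJ.v_inv]; exact eq_inv_of_mul_eq_one_right h1
    exact hufix (mul_left_cancel h2)
  have hzP : z ∈ P := mul_mem heP (mul_mem (mul_mem hyP heP) (inv_mem hyP))
  have hzy : z = e * y * e⁻¹ * y⁻¹ := by rw [hz, heinv]; group
  have heK : e ∉ normalizer (K : Set G) := by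
    intro heK
    have hzK : z ∈ K := by
      rw [hzy]
      exact mul_mem ((mem_normalizer_iff.1 heK y).1 hy) (inv_mem hy)
    by_cases hg₂J : g₂ ∈ J
    · refine hne (eq_of_two_mem hJ hK ?_ hzK (isPGroup_of_mem hP hzP) hz1).symm
      rw [hzv]
      exact mul_mem (mul_mem hJ.mem hgJ) hg₂J
    · have hJ2 := hJ.conj_mem (mem_Cz'.2 (hyv.mul_left hyv) : t ∈ Cz v)
      have hne2 : J ≠ J.map (MulAut.conj t).toMonoidHom := fun e2 =>
        hg₂J (e2.symm ▸ ⟨g, hgJ, rfl⟩)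
      have hc2 : Commute g g₂ := commute_in hJ hJ2 hne2 hP hgJ ⟨g, hgJ, rfl⟩ hgP hg₂P
      have hgv : Commute g v := hJ.commute_v hgJ
      have hg₂v : Commute g₂ v := mem_Cz'.1 (hPC hg₂P)
      have hzz : z * z = 1 := by
        have hg₂₂ : g₂ * g₂ = v := by
          rw [hg₂, show t * g * t⁻¹ * (t * g * t⁻¹) = t * (g * g) * t⁻¹ by group, hgg,
            (hyv.mul_left hyv).eq, mul_inv_cancel_right]
        calc z * z = v * (g * g₂ * v) * g * g₂ := by rw [hzv]; group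
          _ = v * (v * (g * g₂)) * g * g₂ := by rw [(hgv.mul_left hg₂v).eq]
          _ = g * (g₂ * g) * g₂ := by rw [← mul_assoc v v, hJ.vv, one_mul]; group
          _ = (g * g) * (g₂ * g₂) := by rw [← hc2.eq]; group
          _ = 1 := by rw [hgg, hg₂₂, hJ.vv]
      have hzu : z = u := hK.uniq z hzK (orderOf_two_iff.2 ⟨hzz, hz1⟩)
      have hzg : Commute z g := by
        rw [hzv]; exact (hgv.symm.mul_left (Commute.refl g)).mul_left hc2.symm
      rw [hzu] at hzg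
      exact hne_g (by rw [← hug', hzg.eq, mul_inv_cancel_right])
  have hK' := hK.conj_mem (mem_Cz'.2 heu)
  have hKK : K ≠ K.map (MulAut.conj e).toMonoidHom := fun h1 => heK (conj_eq_self_iff.1 h1.symm)
  have hcy : Commute y (e * y * e⁻¹) := commute_in hK hK' hKK hP hy ⟨y, hy, rfl⟩ hyP
    (mul_mem (mul_mem heP hyP) (inv_mem heP))
  have hyz : Commute y z := by rw [hzy]; exact hcy.mul_right (Commute.refl y).inv_right
  set g₃ := y * g₂ * y⁻¹ with hg₃
  have hg₃P : g₃ ∈ P := mul_mem (mul_mem hyP hg₂P) (inv_mem hyP)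
  have h13 : g₁ * g₃ = g * g₂ := by
    have h1 : y * z * y⁻¹ = z := by rw [hyz.eq, mul_inv_cancel_right]
    rw [hzv, show y * (v * g * g₂) * y⁻¹ = y * v * y⁻¹ * ((y * g * y⁻¹) * (y * g₂ * y⁻¹)) by group,
      hvy, ← hg₁, ← hg₃, mul_assoc v g g₂] at h1
    exact mul_left_cancel h1
  -- `t` normalizes `J`
  have htn : t ∈ normalizer (J : Set G) := by
    by_contra htn
    have hJ2 := hJ.conj_mem (mem_Cz'.2 (hyv.mul_left hyv) : t ∈ Cz v)
    have hJ3 := hJ.conj_mem (mem_Cz'.2 (hyv.mul_left (hyv.mul_left hyv)) : y * t ∈ Cz v)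
    have h12 : J.map (MulAut.conj y).toMonoidHom ≠ J.map (MulAut.conj t).toMonoidHom := by
      intro h
      rw [ht, ← conj_conj] at h
      refine hne1 ?_
      exact Subgroup.map_injective (MulAut.conj y).injective h
    have h13' : J.map (MulAut.conj y).toMonoidHom ≠ J.map (MulAut.conj (y * t)).toMonoidHom := by
      intro h
      rw [← conj_conj] at h
      exact htn (conj_eq_self_iff.1 (Subgroup.map_injective (MulAut.conj y).injective h).symm)
    set x₁ := y * g' * y⁻¹ with hx₁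
    have hx₁J : x₁ ∈ J.map (MulAut.conj y).toMonoidHom := ⟨g', hg'Q.2, rfl⟩
    have hx₁P : x₁ ∈ P := mul_mem (mul_mem hyP hg'Q.1) (inv_mem hyP)
    have c0 : Commute g x₁ := commute_in hJ hJ1 hne1 hP hgJ hx₁J hgP hx₁P
    have c2 : Commute x₁ g₂ := commute_in hJ1 hJ2 h12 hP hx₁J ⟨g, hgJ, rfl⟩ hx₁P hg₂P
    have c3 : Commute x₁ g₃ := commute_in hJ1 hJ3 h13' hP hx₁J
      ⟨g, hgJ, show y * t * g * (y * t)⁻¹ = g₃ by rw [hg₃, hg₂]; group⟩ hx₁P hg₃P
    have hx₁g : x₁ * g₁ * x₁⁻¹ = g₁⁻¹ := by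
      rw [hx₁, hg₁, show y * g' * y⁻¹ * (y * g * y⁻¹) * (y * g' * y⁻¹)⁻¹ = y * (g' * g * g'⁻¹) * y⁻¹
        by group, hanti]
      group
    have h1 : x₁ * (g₁ * g₃) * x₁⁻¹ = g₁⁻¹ * g₃ := by
      rw [show x₁ * (g₁ * g₃) * x₁⁻¹ = x₁ * g₁ * x₁⁻¹ * (x₁ * g₃ * x₁⁻¹) by group, hx₁g, c3.eq,
        mul_inv_cancel_right]
    have h2 : x₁ * (g * g₂) * x₁⁻¹ = g * g₂ := by
      rw [(c0.symm.mul_right c2).eq, mul_inv_cancel_right]
    rw [h13, h2, ← h13] at h1
    exact hJ.v_ne (by rw [← hg₁g₁]; exact (congrArg (g₁ * ·) (mul_right_cancel h1)).trans (mul_inv_cancel g₁))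
  have hg₂J : g₂ ∈ J := (mem_normalizer_iff.1 htn g).1 hgJ
  have hg₃J : g₃ ∈ J.map (MulAut.conj y).toMonoidHom := ⟨g₂, hg₂J, rfl⟩
  have hzv' : z = v := by
    rcases hJ.two_of_mem_both hJ1 hne1 (mul_mem hgJ hg₂J) (h13 ▸ mul_mem hg₁J hg₃J)
      (isPGroup_of_mem hP (mul_mem hgP hg₂P)) with h1 | h1
    · rw [hzv, mul_assoc, h1, mul_one]
    · exact absurd (by rw [hzv, mul_assoc, h1, hJ.vv]) hz1
  have hg₂g : g₂ = g⁻¹ := by
    refine eq_inv_of_mul_eq_one_right ?_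
    rw [hzv, mul_assoc] at hzv'
    exact mul_eq_left.1 hzv'
  refine ⟨g, g', P, hP, hPC, hyP, hgP, hgJ, hg'Q.1, hg'Q.2, hgg, hanti, hug', huJ, hnc, he1, hee,
    heu, hev, heK, ?_, ?_⟩
  · rw [← hg₁, ← he]
    calc e * y * e⁻¹ = z * y := by rw [hzy]; group
      _ = v * y := by rw [hzv']
  · -- the order of `t`
    by_contra htu
    refine htu ?_
    obtain ⟨k, hk⟩ := IsPGroup.iff_card.1 (isPGroup_of_mem hP htP : IsPGroup 2 (zpowers t))
    rw [Nat.card_zpowers] at hk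
    have hk0 : k ≠ 0 := fun e0 => hyy (orderOf_eq_one_iff.1 (by rw [hk, e0, pow_zero]))
    by_cases hk1 : k = 1
    · exact hK.uniq t (mul_mem hy hy) (by rw [hk, hk1, pow_one])
    exfalso
    have htt : Commute (t * t) g := by
      refine mul_inv_eq_iff_eq_mul.1 ?_
      rw [show t * t * g * (t * t)⁻¹ = t * g₂ * t⁻¹ by rw [hg₂]; group, hg₂g,
        show t * g⁻¹ * t⁻¹ = (t * g * t⁻¹)⁻¹ by group, ← hg₂, hg₂g, inv_inv]
    have h2 : t * t ≠ 1 := fun h2 => hk1 (by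
      have h3 : orderOf t ∣ 2 := orderOf_dvd_of_pow_eq_one (by rwa [pow_two])
      rw [hk] at h3
      have := (Nat.pow_dvd_pow_iff_le_right (by norm_num : 1 < 2)).1 (by rwa [pow_one] : 2 ^ k ∣ 2 ^ 1)
      omega)
    obtain ⟨i, hi⟩ := hK.mem_zpowers (mul_mem (mul_mem hy hy) (mul_mem hy hy))
      (isPGroup_of_mem hP (mul_mem htP htP)) h2
    exact hne_g (by rw [← hug', ← hi, (htt.zpow_left i).eq, mul_inv_cancel_right])

/-- A moving 2-element squares to the involution. -/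
theorem moving_sq (hJ : Fund v J) (hK : Fund u K) (hsz : sz J = sz K) (hne : u ≠ v) {y : G}
    (hy : y ∈ K) (hy2 : IsPGroup 2 (zpowers y)) (hyy : y * y ≠ 1) (hyv : Commute y v)
    (hmove : y ∉ normalizer (J : Set G)) : y * y = u := by
  obtain ⟨g, g', P, h⟩ := exists_moving hJ hK hsz hne hy hy2 hyy hyv hmove
  exact h.yy

end Cfsg.Agent.Fus.FundPair
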