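import Cfsg.Agent.Lib.Fus.FundPair.Transport

/-!
Normalizing is symmetric for two components with one involution and equal simple sections.
-/

set_option autoImplicit false
set_option linter.unusedSectionVars false
set_option linter.style.haveILetI false

namespace Cfsg.Agent.Fus.FundPair

open Subgroup Cfsg.Agent.Grp Cfsg.Agent.Invol
open scoped commutatorElement

universe u

variable {G : Type u} [Group G] [Finite G] {v u : G} {J K : Subgroup G}

theorem Fund.commute_of_normalizer (hK : Fund u K) (hn : v ∈ normalizer (K : Set G)) :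
    Commute v u := by
  refine mul_inv_eq_iff_eq_mul.1 (hK.uniq _ ((mem_normalizer_iff.1 hn u).1 hK.mem) ?_)
  rw [Invol.orderOf_conj_eq, hK.ord]

/-- If `v` normalizes `K` then `u` normalizes `J`. -/
theorem normalizer_symm (hJ : Fund v J) (hK : Fund u K) (hsz : sz J = sz K)
    (hn : v ∈ normalizer (K : Set G)) : u ∈ normalizer (J : Set G) := by
  haveI : Fact (Nat.Prime 2) := ⟨Nat.prime_two⟩
  have hvu : Commute v u := hK.commute_of_normalizer hn
  by_contra hne
  have hnc : ¬ Cent u v K := fun hC => hne (mutual_cent hJ hK hsz hvu.symm hC).1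
  have huv : u ∈ Cz v := mem_Cz'.2 hvu.symm
  obtain ⟨P, huP, hPC, hP, hmax⟩ := exists_max v
    (Invol.isPGroup_zpowers (n := 1) (by rw [hK.ord, pow_one]) : IsPGroup 2 (zpowers u))
    (zpowers_le.2 huv)
  replace huP : u ∈ P := huP (Subgroup.mem_zpowers u)
  have hQ := hJ.sylJ_of_max hPC hP hmax
  obtain ⟨a, ha⟩ := hJ.quat hQ
  obtain ⟨g, hgQ, hga⟩ := ha.ex
  have hgv : g * g = v := ((ha.out g hgQ).resolve_left hga).2
  obtain ⟨g', hg'Q, -, hanti⟩ := ha.anti hJ hQ hgQ hgv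
  have hgP : g ∈ P := hgQ.1
  have hgJ : g ∈ J := hgQ.2
  have hg2 : IsPGroup 2 (zpowers g) := isPGroup_of_mem hP hgP
  have hg1 : g * g ≠ 1 := hgv.symm ▸ hJ.v_ne
  have hJ' := hJ.conj_mem huv
  have hJJ : J ≠ J.map (MulAut.conj u).toMonoidHom := fun e => hne (conj_eq_self_iff.1 e.symm)
  set gu := u * g * u⁻¹ with hgu
  have hguJ : gu ∈ J.map (MulAut.conj u).toMonoidHom := ⟨g, hgJ, rfl⟩
  have hguP : gu ∈ P := mul_mem (mul_mem huP hgP) (inv_mem huP)
  have hcg : Commute g gu := commute_in hJ hJ' hJJ hP hgJ hguJ hgP hguP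
  have hcg' : Commute g' gu := commute_in hJ hJ' hJJ hP hg'Q.2 hguJ hg'Q.1 hguP
  have huu : u * u = 1 := hK.vv
  have hguv : gu * gu = v := by
    rw [hgu, show u * g * u⁻¹ * (u * g * u⁻¹) = u * (g * g) * u⁻¹ by group, hgv, ← hvu.eq,
      mul_inv_cancel_right]
  set e := g * gu with he
  have hee : e * e = 1 := by
    rw [he, show g * gu * (g * gu) = g * (gu * g) * gu by group, ← hcg.eq,
      show g * (g * gu) * gu = g * g * (gu * gu) by group, hgv, hguv, hJ.vv]
  have he1 : e ≠ 1 := by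
    intro h1
    refine hJJ (hJ.eq_of_mem hJ' hgJ ?_ hg2 hg1)
    rw [eq_inv_of_mul_eq_one_left h1]
    exact inv_mem hguJ
  have heP : e ∈ P := mul_mem hgP hguP
  have heV : Commute e v := mem_Cz'.1 (hPC heP)
  have heU : Commute e u := by
    refine (mul_inv_eq_iff_eq_mul.1 ?_ : u * e = e * u).symm
    have h1 : u * gu * u⁻¹ = g := by
      rw [hgu, show u * (u * g * u⁻¹) * u⁻¹ = u * u * g * (u * u)⁻¹ by group, huu, one_mul, inv_one,
        mul_one]
    rw [he, show u * (g * gu) * u⁻¹ = u * g * u⁻¹ * (u * gu * u⁻¹) by group, h1, ← hgu]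
    exact hcg.eq.symm
  obtain ⟨D, hD, hDsz, -, hDmem⟩ := exists_diag hJ hK.ord huv hne
  have heD : e ∈ D := hDmem g hgJ e ⟨mem_Cz'.2 heV, mem_Cz'.2 heU⟩ (isPGroup_of_mem hP heP)
    (show Cong v e e by rw [Cong, inv_mul_cancel]; exact one_mem _)
  have hCe : Cent u e K := cent_of_layer hK hD (le_pLayerIn hJ.ord hvu hD)
    (hsz.symm.le.trans hDsz.symm.le) (mem_Cz'.2 hvu) hn
    (fun x hx => mem_Cz'.1 (hD.1 hx).1) hnc e heD
  -- an inverted element of `K`
  have hvP : v ∈ P := (hJ.v_mem_sylJ hQ).1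
  obtain ⟨P₂, hAP, hP₂C, hP₂, hmax₂⟩ := exists_max u (hP.to_le (inf_le_left : P ⊓ Cz u ≤ P))
    inf_le_right
  have hvP₂ : v ∈ P₂ := hAP ⟨hvP, mem_Cz'.2 hvu⟩
  have heP₂ : e ∈ P₂ := hAP ⟨heP, mem_Cz'.2 heU⟩
  have hQ₂ := hK.sylJ_of_max hP₂C hP₂ hmax₂
  have hvN : v ∈ normalizer ((P₂ ⊓ K : Subgroup G) : Set G) :=
    inf_normalizer_le_normalizer_inf ⟨Subgroup.le_normalizer hvP₂, hn⟩
  obtain ⟨w, hwQ, hwu, hwinv⟩ := exists_inverted hK hQ₂ hJ.ord hvu hn hvN hnc
  have hwe : Commute e w := commutatorElement_eq_one_iff_mul_comm.1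
    (eq_one_of_mem_Oz (hCe w hwQ.2) (isPGroup_of_mem hP₂ (by
      rw [commutatorElement_def]
      exact mul_mem (mul_mem (mul_mem heP₂ hwQ.1) (inv_mem heP₂)) (inv_mem hwQ.1))))
  -- the conjugating element
  have hwv : w * v * w⁻¹ = v * u := by
    have h1 : v * w * v * w = 1 := by rw [hwinv, inv_mul_cancel]
    have h2 : w * v * w = v := by
      calc w * v * w = v⁻¹ * (v * w * v * w) := by group
        _ = v := by rw [h1, mul_one, hJ.v_inv]
    calc w * v * w⁻¹ = w * v * w * (w * w)⁻¹ := by group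
      _ = v * u := by rw [h2, hwu, hK.v_inv]
  have hgev : g * gu⁻¹ = v * e := by
    have hgue : gu = g⁻¹ * e := by rw [he, inv_mul_cancel_left]
    have hge : Commute g e := (Commute.refl g).mul_right hcg
    calc g * gu⁻¹ = g * (e⁻¹ * g) := by rw [hgue]; group
      _ = g * (e * g) := by rw [inv_eq_of_mul_eq_one_left hee]
      _ = g * (g * e) := by rw [hge.eq]
      _ = v * e := by rw [← mul_assoc, hgv]
  have hgu' : g * u * g⁻¹ = v * e * u := by
    calc g * u * g⁻¹ = g * (u * g⁻¹ * u⁻¹) * u := by group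
      _ = g * gu⁻¹ * u := by rw [hgu]; group
      _ = v * e * u := by rw [hgev]
  have hge : Commute g e := (Commute.refl g).mul_right hcg
  have hgcv : g * v * g⁻¹ = v := by rw [(hJ.commute_v hgJ).eq, mul_inv_cancel_right]
  set h := g * w with hh
  have hhv : h * v * h⁻¹ = u * e := by
    calc h * v * h⁻¹ = g * (w * v * w⁻¹) * g⁻¹ := by rw [hh]; group
      _ = g * v * g⁻¹ * (g * u * g⁻¹) := by rw [hwv]; group
      _ = v * v * e * u := by rw [hgcv, hgu']; group
      _ = u * e := by rw [hJ.vv, one_mul, heU.eq]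
  have hhe : h * (e * v) * h⁻¹ = u := by
    calc h * (e * v) * h⁻¹ = g * ((w * e * w⁻¹) * (w * v * w⁻¹)) * g⁻¹ := by rw [hh]; group
      _ = g * e * g⁻¹ * (g * v * g⁻¹) * (g * u * g⁻¹) := by
          rw [← hwe.eq, mul_inv_cancel_right, hwv]; group
      _ = e * v * (v * e * u) := by rw [hge.eq, mul_inv_cancel_right, hgcv, hgu']
      _ = (e * (v * v) * e) * u := by group
      _ = u := by rw [hJ.vv, mul_one, hee, one_mul]
  have hA : Fund (u * e) (J.map (MulAut.conj h).toMonoidHom) := hhv ▸ hJ.conj h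
  have hcu : Commute u (u * e) := (Commute.refl u).mul_right heU.symm
  have hCue : Cent u (u * e) K :=
    cent_mul (mem_Cz'.2 (Commute.refl u)) hK.cent_self hCe
  obtain ⟨-, hCA, -⟩ := mutual_cent hA hK ((sz_map J _).trans hsz) hcu hCue
  have hback := hCA.map (MulAut.conj h⁻¹)
  have e1 : MulAut.conj h⁻¹ (u * e) = v := by
    rw [MulAut.conj_apply, ← hhv]; group
  have e2 : MulAut.conj h⁻¹ u = e * v := by
    rw [MulAut.conj_apply, ← hhe]; group
  rw [e1, e2, conj_conj, inv_mul_cancel, conj_one] at hback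
  have hCJ : Cent v e J := by
    have h3 : e * v * v = e := by rw [mul_assoc, hJ.vv, mul_one]
    exact h3 ▸ cent_mul (mem_Cz'.2 (heV.mul_left (Commute.refl v))) hback hJ.cent_self
  refine hJ.not_mem_Oz ?_
  have h4 := hCJ g' hg'Q.2
  have h5 : g' * e * g'⁻¹ = v * e := by
    have h6 : g⁻¹ = v * g := eq_comm.1 (eq_inv_of_mul_eq_one_left (by rw [mul_assoc, hgv, hJ.vv]))
    calc g' * e * g'⁻¹ = g' * g * g'⁻¹ * (g' * gu * g'⁻¹) := by rw [he]; group
      _ = v * e := by rw [hanti, hcg'.eq, mul_inv_cancel_right, h6, he, mul_assoc]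
  have h7 : ⁅e, g'⁆ = v := by
    calc ⁅e, g'⁆ = e * (g' * e * g'⁻¹)⁻¹ := by rw [commutatorElement_def]; group
      _ = v := by rw [h5, mul_inv_rev, hJ.v_inv, mul_inv_cancel_left]
  exact h7 ▸ h4

end Cfsg.Agent.Fus.FundPair
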