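import Cfsg.Agent.Lib.Fus.FundPair.Swap

/-!
2-elements of order at least 4 of one component centralizing the other involution normalize the
other component.
-/

set_option autoImplicit false
set_option linter.unusedSectionVars false
set_option linter.style.haveILetI false

namespace Cfsg.Agent.Fus.FundPair

open Subgroup Cfsg.Agent.Grp Cfsg.Agent.Invol
open scoped commutatorElement

universe u

variable {G : Type u} [Group G] [Finite G] {v u y g g' x p : G} {J K P P₂ : Subgroup G}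

/-- Distinct 2-components commute modulo the core. -/
theorem comm_mem_core {D D' H : Subgroup G} (hD : Cfsg.IsPComponentOf 2 D H)
    (hD' : Cfsg.IsPComponentOf 2 D' H) (hne : D ≠ D') {a b : G} (ha : a ∈ D) (hb : b ∈ D') :
    ⁅a, b⁆ ∈ (Cfsg.pPrimeCore 2 ↥H).map H.subtype := by
  haveI : Fact (Nat.Prime 2) := ⟨Nat.prime_two⟩
  have hH : ⁅a, b⁆ ∈ H := by
    rw [commutatorElement_def]
    exact H.mul_mem (H.mul_mem (H.mul_mem (hD.1 ha) (hD'.1 hb)) (H.inv_mem (hD.1 ha)))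
      (H.inv_mem (hD'.1 hb))
  have hc := mem_centralizer_iff.1 (IsComponent.commute hD.2.2.1 hD'.2.2.1
    (fun e => hne (pComponentOf_bar_injective hD hD' e)) (toBar_mem_bar (hD.1 ha) ha)) _
    (toBar_mem_bar (hD'.1 hb) hb)
  rw [mem_core_iff hH]
  show QuotientGroup.mk' (Cfsg.pPrimeCore 2 ↥H) ⁅(⟨a, hD.1 ha⟩ : ↥H), ⟨b, hD'.1 hb⟩⁆ = 1
  rw [map_commutatorElement, commutatorElement_eq_one_iff_mul_comm]
  exact hc.symm

/-- An element cycling `uv`, `p` and `uvp`. -/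
theorem exists_cycle (hK : Fund u K) (hy : y ∈ K) (M : MovingData v u J K y g g' P)
    (L : LocalData v u J K y g P₂ x) (D : PairData v u K y x (g * (y * g * y⁻¹)) p)
    (S : Sylow 2 (↥(img u K) ⧸ Subgroup.center ↥(img u K)))
    (hS : IsKleinFour ↥(S : Subgroup (↥(img u K) ⧸ Subgroup.center ↥(img u K))))
    (hyS : sec hK ⟨y, hy⟩ ∈ S) (hxS : sec hK ⟨x, L.xK⟩ ∈ S) (hy1 : sec hK ⟨y, hy⟩ ≠ 1)
    (hx1 : sec hK ⟨x, L.xK⟩ ≠ 1) (hxy : sec hK ⟨y, hy⟩ ≠ sec hK ⟨x, L.xK⟩) :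
    ∃ d : G, Commute d u ∧ Commute d (g * (y * g * y⁻¹)) ∧ d * (u * v) * d⁻¹ = p ∧
      d * p * d⁻¹ = u * v * p := by
  haveI : Fact (Nat.Prime 2) := ⟨Nat.prime_two⟩
  set e := g * (y * g * y⁻¹) with he
  obtain ⟨n, hn1, hn2⟩ := exists_three_cycle (sec_no_index_two hK) S hS hyS hxS hy1 hx1 hxy
  obtain ⟨k, rfl⟩ := sec_surjective hK n
  rw [← map_inv, ← map_mul, ← map_mul] at hn1 hn2
  rw [← map_mul] at hn2
  have hkC : (k : G) ∈ Cz u := hK.le k.2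
  have hxC : x ∈ Cz u := L.pC L.xP
  have hyC : y ∈ Cz u := L.pC L.yP
  have heC : e ∈ Cz u := L.pC L.eP
  have huC : u ∈ Cz u := hK.le hK.mem
  set U := qz huC with hU
  set Y := qz hyC with hY
  set X := qz hxC with hX
  set E := qz heC with hE
  set k₀ := qz hkC with hk₀
  have hEE : E * E = 1 := by
    rw [hE, ← qz_mul heC heC, qz_congr (mul_mem heC heC) (one_mem _) M.ee]; exact map_one _
  have hEi : E⁻¹ = E := inv_eq_of_mul_eq_one_left hEE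
  have hUU : U * U = 1 := by
    rw [hU, ← qz_mul huC huC, qz_congr (mul_mem huC huC) (one_mem _) hK.vv]; exact map_one _
  have hEU : Commute E U := by
    show E * U = U * E
    rw [hE, hU, ← qz_mul heC huC, ← qz_mul huC heC]
    exact qz_congr _ _ M.eu.eq
  have hK' := hK.conj_mem heC
  have hKK : K ≠ K.map (MulAut.conj e).toMonoidHom := fun h1 => M.eK (conj_eq_self_iff.1 h1.symm)
  have hcross : ∀ {a b : ↥(Cz u) ⧸ Cfsg.pPrimeCore 2 ↥(Cz u)}, a ∈ img u K → b ∈ img u K →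
      Commute a (E * b * E⁻¹) := by
    intro a b ha hb
    obtain ⟨⟨w, hwC⟩, hw, rfl⟩ := hb
    refine (mem_centralizer_iff.1 (IsComponent.commute hK.img_comp hK'.img_comp
      (fun e => hKK (img_inj hK hK' e)) ha) _ ?_).symm
    rw [show QuotientGroup.mk' (Cfsg.pPrimeCore 2 ↥(Cz u)) ⟨w, hwC⟩ = qz hwC from rfl, hE,
      ← qz_conj heC hwC]
    exact mem_img (J := K.map (MulAut.conj e).toMonoidHom) ⟨w, hw, rfl⟩ _
  have hk₀L : k₀ ∈ img u K := mem_img k.2 _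
  have hXL : X ∈ img u K := mem_img L.xK _
  have hYL : Y ∈ img u K := mem_img hy _
  set D₀ := k₀ * (E * k₀ * E⁻¹) with hD₀
  have hφ : ∀ {a : ↥(Cz u) ⧸ Cfsg.pPrimeCore 2 ↥(Cz u)}, a ∈ img u K →
      D₀ * (a * (E * a * E⁻¹)) * D₀⁻¹ = k₀ * a * k₀⁻¹ * (E * (k₀ * a * k₀⁻¹) * E⁻¹) := by
    intro a ha
    set k₁ := E * k₀ * E⁻¹ with hk₁
    set a₁ := E * a * E⁻¹ with ha₁
    have c1 : Commute a k₁ := hcross ha hk₀L
    have c2 : Commute k₀ (k₁ * a₁ * k₁⁻¹) := by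
      rw [hk₁, ha₁, show E * k₀ * E⁻¹ * (E * a * E⁻¹) * (E * k₀ * E⁻¹)⁻¹ = E * (k₀ * a * k₀⁻¹) * E⁻¹
        by group]
      exact hcross hk₀L (mul_mem (mul_mem hk₀L ha) (inv_mem hk₀L))
    calc k₀ * k₁ * (a * a₁) * (k₀ * k₁)⁻¹ = k₀ * (k₁ * a) * a₁ * k₁⁻¹ * k₀⁻¹ := by group
      _ = k₀ * (a * k₁) * a₁ * k₁⁻¹ * k₀⁻¹ := by rw [c1.eq]
      _ = k₀ * a * ((k₁ * a₁ * k₁⁻¹) * k₀⁻¹) := by group
      _ = k₀ * a * (k₀⁻¹ * (k₁ * a₁ * k₁⁻¹)) := by rw [c2.inv_left.eq]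
      _ = _ := by rw [hk₁, ha₁]; group
  have himg : ∀ {a b : ↥(Cz u) ⧸ Cfsg.pPrimeCore 2 ↥(Cz u)}, (b = a ∨ b = a * U) →
      a * (E * a * E⁻¹) = b * (E * b * E⁻¹) := by
    rintro a b (rfl | rfl)
    · rfl
    · have hUc : Commute U (E * a * E⁻¹) := by
        have h : ∀ z : ↥(Cz u) ⧸ Cfsg.pPrimeCore 2 ↥(Cz u), Commute U z := by
          intro z
          obtain ⟨⟨w, hw⟩, rfl⟩ := QuotientGroup.mk'_surjective _ z
          show qz huC * qz hw = qz hw * qz huC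
          rw [← qz_mul huC hw, ← qz_mul hw huC]
          exact qz_congr _ _ (mem_Cz'.1 hw).symm.eq
        exact h _
      calc a * (E * a * E⁻¹) = a * (U * U) * (E * a * E⁻¹) := by rw [hUU, mul_one]
        _ = a * U * (U * (E * a * E⁻¹)) := by group
        _ = a * U * (E * a * E⁻¹ * (E * U * E⁻¹)) := by rw [hUc.eq, hEU.eq, mul_inv_cancel_right]
        _ = _ := by group
  -- the two images
  have hYv : Y * (E * Y * E⁻¹) = qz (mul_mem (L.pC L.yP) (mul_mem (L.pC L.vP) (L.pC L.yP))) := by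
    rw [hE, hY, ← qz_conj heC hyC, ← qz_mul hyC (mul_mem (mul_mem heC hyC) (inv_mem heC))]
    exact qz_congr _ _ (by rw [he, M.eye])
  have hpC : p ∈ Cz u := mem_Cz'.2 D.pu
  have huvC : u * v ∈ Cz u := mul_mem huC (L.pC L.vP)
  have hUV : Y * (E * Y * E⁻¹) = qz huvC := by
    rw [hYv]
    exact qz_congr _ _ (by rw [← mul_assoc, M.yv.eq, mul_assoc, M.yy, M.uv.eq])
  have hXp : X * (E * X * E⁻¹) = qz hpC := by
    rw [hE, hX, ← qz_conj heC hxC, ← qz_mul hxC (mul_mem (mul_mem heC hxC) (inv_mem heC))]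
    exact qz_congr _ _ (by rw [D.eq])
  have h1 : D₀ * qz huvC * D₀⁻¹ = qz hpC := by
    rw [← hUV, hφ hYL, ← hXp]
    refine (himg (a := X) (b := k₀ * Y * k₀⁻¹) ?_).symm
    have := sec_eq hK hn1.symm
    rw [show k₀ * Y * k₀⁻¹ = qz (hK.le (k * ⟨y, hy⟩ * k⁻¹ : ↥K).2) from (qz_conj hkC hyC).symm]
    exact this
  have h2 : D₀ * qz hpC * D₀⁻¹ = qz huvC * qz hpC := by
    rw [← hUV, ← hXp, hφ hXL,
      show Y * (E * Y * E⁻¹) * (X * (E * X * E⁻¹)) = Y * X * (E * (Y * X) * E⁻¹) by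
        calc Y * (E * Y * E⁻¹) * (X * (E * X * E⁻¹))
            = Y * ((E * Y * E⁻¹) * X) * (E * X * E⁻¹) := by group
          _ = Y * (X * (E * Y * E⁻¹)) * (E * X * E⁻¹) := by rw [(hcross hXL hYL).eq]
          _ = _ := by group]
    refine (himg (a := Y * X) (b := k₀ * X * k₀⁻¹) ?_).symm
    have := sec_eq hK hn2.symm
    rw [show k₀ * X * k₀⁻¹ = qz (hK.le (k * ⟨x, L.xK⟩ * k⁻¹ : ↥K).2) from (qz_conj hkC hxC).symm,
      show Y * X = qz (hK.le (⟨y, hy⟩ * ⟨x, L.xK⟩ : ↥K).2) from (qz_mul hyC hxC).symm]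
    exact this
  -- lift it
  have hD₀E : D₀ ∈ centralizer (((zpowers (⟨e, heC⟩ : ↥(Cz u))).map
      (QuotientGroup.mk' (Cfsg.pPrimeCore 2 ↥(Cz u))) : Subgroup _) :
        Set (↥(Cz u) ⧸ Cfsg.pPrimeCore 2 ↥(Cz u))) := by
    rw [MonoidHom.map_zpowers, zpowers_eq_closure, centralizer_closure,
      mem_centralizer_singleton_iff]
    show D₀ * E = E * D₀
    calc k₀ * (E * k₀ * E⁻¹) * E = E * k₀ * E⁻¹ * k₀ * E := by rw [(hcross hk₀L hk₀L).eq]
      _ = E * (k₀ * (E * k₀ * E⁻¹)) := by rw [hEi]; simp only [mul_assoc]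
  have he2 : IsPGroup 2 (zpowers (⟨e, heC⟩ : ↥(Cz u))) :=
    isPGroup_zpowers_sub heC (isPGroup_of_mem L.pgroup L.eP)
  rw [← map_centralizer_pGroup he2] at hD₀E
  obtain ⟨⟨d₀, hd₀C⟩, hd₀e, hd₀q⟩ := hD₀E
  have hd₀e' : Commute d₀ e := congrArg Subtype.val
    ((mem_centralizer_iff.1 hd₀e _ (mem_zpowers _)).symm)
  set Hh := Cz u ⊓ Cz e with hHh
  set N := Oz u ⊓ Cz e with hN
  have hHN : Hh ≤ normalizer (N : Set G) := by
    have hcl : ∀ {h m : G}, h ∈ Hh → m ∈ N → h * m * h⁻¹ ∈ N := fun {h m} hh hm =>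
      ⟨conj_mem_Oz hm.1 hh.1, (Cz e).mul_mem ((Cz e).mul_mem hh.2 hm.2) ((Cz e).inv_mem hh.2)⟩
    intro h hh
    rw [mem_normalizer_iff]
    refine fun m => ⟨hcl hh, fun hm => ?_⟩
    have := hcl (inv_mem hh) hm
    rwa [show h⁻¹ * (h * m * h⁻¹) * h⁻¹⁻¹ = m by group] at this
  have hpH : p ∈ Hh := ⟨hpC, mem_Cz'.2 D.pe⟩
  have hqH : u * v ∈ Hh := ⟨huvC, mem_Cz'.2 (M.eu.mul_right M.ev).symm⟩
  have hdH : d₀ ∈ Hh := ⟨hd₀C, mem_Cz'.2 hd₀e'⟩
  set V := zpowers (u * v) ⊔ zpowers p with hV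
  have hVH : V ≤ Hh := sup_le (zpowers_le.2 hqH) (zpowers_le.2 hpH)
  have hcqp : Commute (u * v) p := D.pu.symm.mul_left D.pv.symm
  have hpP : p ∈ P₂ := D.eq ▸ mul_mem L.xP (mul_mem (mul_mem L.eP L.xP) (inv_mem L.eP))
  have hqP : u * v ∈ P₂ := mul_mem (M.yy ▸ mul_mem L.yP L.yP) L.vP
  have hVP : V ≤ P₂ := sup_le (zpowers_le.2 hqP) (zpowers_le.2 hpP)
  have hV2 : IsPGroup 2 V := L.pgroup.to_le hVP
  -- congruences
  have hc1 : Cong u (d₀ * (u * v) * d₀⁻¹) p := by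
    refine (mk_eq_iff (mul_mem (mul_mem hd₀C huvC) (inv_mem hd₀C)) hpC).1 ?_
    show qz (mul_mem (mul_mem hd₀C huvC) (inv_mem hd₀C)) = qz hpC
    rw [qz_conj hd₀C huvC, show qz hd₀C = D₀ from hd₀q, h1]
  have hc2 : Cong u (d₀ * p * d₀⁻¹) (u * v * p) := by
    refine (mk_eq_iff (mul_mem (mul_mem hd₀C hpC) (inv_mem hd₀C)) (mul_mem huvC hpC)).1 ?_
    show qz (mul_mem (mul_mem hd₀C hpC) (inv_mem hd₀C)) = qz (mul_mem huvC hpC)
    rw [qz_conj hd₀C hpC, show qz hd₀C = D₀ from hd₀q, h2, qz_mul huvC hpC]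
  have hin : ∀ {w w' : G}, w ∈ Hh → w' ∈ V → Cong u (d₀ * w * d₀⁻¹) w' →
      d₀ * w * d₀⁻¹ ∈ N ⊔ V := by
    intro w w' hw hw' hc
    have hmem : d₀ * w * d₀⁻¹ ∈ Hh := mul_mem (mul_mem hdH hw) (inv_mem hdH)
    have ho : (d₀ * w * d₀⁻¹)⁻¹ * w' ∈ N :=
      ⟨hc, (Cz e).mul_mem ((Cz e).inv_mem hmem.2) (hVH hw').2⟩
    have := mul_mem (mem_sup_right hw' : w' ∈ N ⊔ V) (inv_mem (mem_sup_left ho : _ ∈ N ⊔ V))
    rwa [mul_inv_rev, inv_inv, mul_inv_cancel_left] at this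
  have hle : V.map (MulAut.conj d₀).toMonoidHom ≤ N ⊔ V := by
    rw [map_le_iff_le_comap]
    refine sup_le (zpowers_le.2 ?_) (zpowers_le.2 ?_)
    · exact hin hqH (mem_sup_right (mem_zpowers p)) hc1
    · exact hin hpH (mul_mem (mem_sup_left (mem_zpowers _)) (mem_sup_right (mem_zpowers p))) hc2
  obtain ⟨m, hm, hmc⟩ := exists_conj_of_le_sup (hVH.trans hHN) hle
    (card_map_of_injective (MulAut.conj d₀).injective)
    (by
      obtain ⟨j, hj⟩ := IsPGroup.iff_card.1 hV2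
      rw [hj]
      exact ((Nat.coprime_two_right.2 odd_Oz).coprime_dvd_left
        (card_dvd_of_le inf_le_left)).pow_right j)
    (Or.inr (by have := hV2.isNilpotent; infer_instance))
  rw [← map_conj_eq_smul] at hmc
  have hmC : m ∈ Cz u := Oz_le hm.1
  have hmq : qz hmC = 1 := (QuotientGroup.eq_one_iff _).2 ((mem_Oz_iff hmC).1 hm.1)
  have hdd : ∀ {w : G}, w ∈ V → m⁻¹ * d₀ * w * (m⁻¹ * d₀)⁻¹ ∈ V := by
    intro w hw
    obtain ⟨w', hw', e'⟩ := (hmc.symm ▸ mem_map_of_mem _ hw :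
      (MulAut.conj d₀).toMonoidHom w ∈ V.map (MulAut.conj m).toMonoidHom)
    have e'' : m * w' * m⁻¹ = d₀ * w * d₀⁻¹ := e'
    rwa [show m⁻¹ * d₀ * w * (m⁻¹ * d₀)⁻¹ = m⁻¹ * (d₀ * w * d₀⁻¹) * m by group, ← e'',
      show m⁻¹ * (m * w' * m⁻¹) * m = w' by group]
  have hqd : ∀ {w : G} (hwC : w ∈ Cz u), Cong u (m⁻¹ * d₀ * w * (m⁻¹ * d₀)⁻¹) (d₀ * w * d₀⁻¹) := by
    intro w hwC
    have hmd : m⁻¹ * d₀ ∈ Cz u := mul_mem (inv_mem hmC) hd₀C
    refine (mk_eq_iff (mul_mem (mul_mem hmd hwC) (inv_mem hmd))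
      (mul_mem (mul_mem hd₀C hwC) (inv_mem hd₀C))).1 ?_
    show qz (mul_mem (mul_mem hmd hwC) (inv_mem hmd)) =
      qz (mul_mem (mul_mem hd₀C hwC) (inv_mem hd₀C))
    rw [qz_conj hmd hwC, qz_conj hd₀C hwC, qz_mul (inv_mem hmC) hd₀C,
      show qz (inv_mem hmC) = (qz hmC)⁻¹ from rfl, hmq, inv_one, one_mul]
  have htrans : ∀ {a b c : G}, Cong u a b → Cong u b c → Cong u a c := fun {a b c} h h' => by
    have := mul_mem h h'
    rwa [show a⁻¹ * b * (b⁻¹ * c) = a⁻¹ * c by group] at this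
  exact ⟨m⁻¹ * d₀, ((mem_Cz'.1 (inv_mem hmC)).mul_left (mem_Cz'.1 hd₀C)),
    (mem_Cz'.1 (inv_mem hm.2)).mul_left hd₀e',
    eq_of_cong hV2 (hdd (mem_sup_left (mem_zpowers _))) (mem_sup_right (mem_zpowers p))
      (htrans (hqd huvC) hc1),
    eq_of_cong hV2 (hdd (mem_sup_right (mem_zpowers p)))
      (mul_mem (mem_sup_left (mem_zpowers _)) (mem_sup_right (mem_zpowers p)))
      (htrans (hqd hpC) hc2)⟩

/-- The final contradiction. -/
theorem false_of_cycle (hJ : Fund v J) (hK : Fund u K) (M : MovingData v u J K y g g' P)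
    (D : PairData v u K y x (g * (y * g * y⁻¹)) p) (hpN : p ∉ normalizer (J : Set G))
    (hpc : Cong v (g * (p * g * p⁻¹)) (g * (y * g * y⁻¹))) {d : G} (hdu : Commute d u)
    (hde : Commute d (g * (y * g * y⁻¹))) (hd1 : d * (u * v) * d⁻¹ = p)
    (hd2 : d * p * d⁻¹ = u * v * p) : False := by
  haveI : Fact (Nat.Prime 2) := ⟨Nat.prime_two⟩
  set e := g * (y * g * y⁻¹) with he
  have heu : Commute e u := M.eu
  have hev : Commute e v := M.ev
  have hqp : Commute (u * v) p := D.pu.symm.mul_left D.pv.symm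
  have hqq : (u * v) * (u * v) = 1 := by
    rw [show u * v * (u * v) = u * (v * u) * v by group, ← M.uv.eq,
      show u * (u * v) * v = (u * u) * (v * v) by group, hK.vv, hJ.vv, mul_one]
  have hJx : Fund (u * v) (J.map (MulAut.conj x).toMonoidHom) := D.xvx ▸ hJ.conj x
  have hxp : x * p * x⁻¹ = p := by rw [D.xp.eq, mul_inv_cancel_right]
  have hpNx : p ∉ normalizer ((J.map (MulAut.conj x).toMonoidHom : Subgroup G) : Set G) := by
    intro h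
    have h1 := conj_eq_self_iff.2 h
    rw [conj_conj, ← D.xp.eq, ← conj_conj] at h1
    exact hpN (conj_eq_self_iff.1 (Subgroup.map_injective (MulAut.conj x).injective h1))
  have hp2 : orderOf p = 2 := orderOf_eq_prime (by rw [pow_two]; exact D.pp) D.p1
  have hpq : p ∈ Cz (u * v) := mem_Cz'.2 hqp.symm
  obtain ⟨Da, hDa, -, hDa1, hDamem⟩ := exists_diag hJx hp2 hpq hpNx
  set ε := p * u * e with hε
  have heq : Commute e (u * v) := heu.mul_right hev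
  have hεq : Commute ε (u * v) :=
    (hqp.symm.mul_left ((Commute.refl u).mul_right M.uv)).mul_left heq
  have hεp : Commute ε p := ((Commute.refl p).mul_left D.pu.symm).mul_left D.pe.symm
  have hεx : ε = x * e * x⁻¹ := D.xex.symm
  have he2 : orderOf e = 2 := orderOf_eq_prime (by rw [pow_two]; exact M.ee) M.e1
  have hεord : orderOf ε = 2 := by rw [hεx, Invol.orderOf_conj_eq, he2]
  have hε2 : IsPGroup 2 (zpowers ε) := Invol.isPGroup_zpowers (n := 1) (by rw [hεord, pow_one])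
  have hcx : Cong (u * v) (x * g * x⁻¹ * (p * (x * g * x⁻¹) * p⁻¹)) ε := by
    have h1 := hpc.map (MulAut.conj x)
    simp only [MulAut.conj_apply] at h1
    rw [D.xvx, ← hεx] at h1
    rwa [show x * (g * (p * g * p⁻¹)) * x⁻¹ =
      x * g * x⁻¹ * ((x * p * x⁻¹) * (x * g * x⁻¹) * (x * p * x⁻¹)⁻¹) by group, hxp] at h1
  have hεDa : ε ∈ Da := hDamem _ ⟨g, M.gJ, rfl⟩ ε ⟨mem_Cz'.2 hεq, mem_Cz'.2 hεp⟩ hε2 hcx
  -- the second one
  have hJd : Fund p ((J.map (MulAut.conj x).toMonoidHom).map (MulAut.conj d).toMonoidHom) :=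
    hd1 ▸ hJx.conj d
  set r := u * v * p with hr
  have hdN : r ∉ normalizer (((J.map (MulAut.conj x).toMonoidHom).map
      (MulAut.conj d).toMonoidHom : Subgroup G) : Set G) := by
    intro h
    have h1 := conj_eq_self_iff.2 h
    rw [conj_conj _ d r, show r * d = d * p by rw [← hd2, inv_mul_cancel_right], ← conj_conj] at h1
    exact hpNx (conj_eq_self_iff.1 (Subgroup.map_injective (MulAut.conj d).injective h1))
  have hr2 : orderOf r = 2 := by rw [← hd2, Invol.orderOf_conj_eq, hp2]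
  have hrp : r ∈ Cz p := mem_Cz'.2 (hqp.mul_left (Commute.refl p))
  obtain ⟨Db, hDb, -, -, hDbmem⟩ := exists_diag hJd hr2 hrp hdN
  have hM : Cz p ⊓ Cz r = Cz (u * v) ⊓ Cz p := by
    refine le_antisymm (fun z hz => ?_) fun z hz => ?_
    · have h1 := mem_Cz'.1 hz.1
      have h2 := mem_Cz'.1 hz.2
      refine ⟨mem_Cz'.2 ?_, hz.1⟩
      have := h2.mul_right h1
      rwa [hr, mul_assoc, D.pp, mul_one] at this
    · exact ⟨hz.2, mem_Cz'.2 ((mem_Cz'.1 hz.1).mul_right (mem_Cz'.1 hz.2))⟩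
  set ε' := d * ε * d⁻¹ with hε'
  have hε'eq : ε' = r * u * e := by
    rw [hε', hε, show d * (p * u * e) * d⁻¹ = d * p * d⁻¹ * (d * u * d⁻¹) * (d * e * d⁻¹) by group,
      hd2, hdu.eq, hde.eq, mul_inv_cancel_right, mul_inv_cancel_right]
  have hε'p : Commute ε' p := by
    rw [hε'eq]
    exact ((hqp.mul_left (Commute.refl p)).mul_left D.pu.symm).mul_left D.pe.symm
  have hε'r : Commute ε' r := by
    rw [hε', ← hd2]
    show d * ε * d⁻¹ * (d * p * d⁻¹) = d * p * d⁻¹ * (d * ε * d⁻¹)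
    calc d * ε * d⁻¹ * (d * p * d⁻¹) = d * (ε * p) * d⁻¹ := by group
      _ = d * (p * ε) * d⁻¹ := by rw [hεp.eq]
      _ = _ := by group
  have hε'2 : IsPGroup 2 (zpowers ε') :=
    Invol.isPGroup_zpowers (n := 1) (by rw [hε', Invol.orderOf_conj_eq, hεord, pow_one])
  have hcd : Cong p (d * (x * g * x⁻¹) * d⁻¹ * (r * (d * (x * g * x⁻¹) * d⁻¹) * r⁻¹)) ε' := by
    have h1 := hcx.map (MulAut.conj d)
    simp only [MulAut.conj_apply] at h1
    rw [hd1, ← hε'] at h1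
    rwa [show d * (x * g * x⁻¹ * (p * (x * g * x⁻¹) * p⁻¹)) * d⁻¹ = d * (x * g * x⁻¹) * d⁻¹ *
      ((d * p * d⁻¹) * (d * (x * g * x⁻¹) * d⁻¹) * (d * p * d⁻¹)⁻¹) by group, hd2] at h1
  have hε'Db : ε' ∈ Db := hDbmem _ ⟨x * g * x⁻¹, ⟨g, M.gJ, rfl⟩, rfl⟩ ε'
    ⟨mem_Cz'.2 hε'p, mem_Cz'.2 hε'r⟩ hε'2 hcd
  rw [hM] at hDb
  -- the product
  have hτ : ε * ε' = u * v := by
    have c1 : Commute (u * e) r := by
      rw [hr]
      exact (((Commute.refl u).mul_right M.uv).mul_right D.pu.symm).mul_left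
        (heq.mul_right D.pe.symm)
    have c2 : Commute u e := heu.symm
    calc ε * ε' = p * ((u * e) * r) * (u * e) := by rw [hε'eq, hε]; group
      _ = p * r * (u * (e * u) * e) := by rw [c1.eq]; group
      _ = p * r * (u * u * (e * e)) := by rw [← c2.eq]; group
      _ = p * (u * v) * p := by rw [hK.vv, M.ee, hr]; group
      _ = u * v := by rw [← hqp.eq, mul_assoc, D.pp, mul_one]
  have hcen : ∀ z ∈ Cz (u * v) ⊓ Cz p, ⁅ε * ε', z⁆ = 1 := fun z hz => by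
    rw [hτ, commutatorElement_eq_one_iff_mul_comm]
    exact (mem_Cz'.1 hz.1).symm.eq
  have hqne : u * v ≠ 1 := fun h1 => by
    refine D.p1 ?_
    rw [← hd1, h1, mul_one, mul_inv_cancel]
  by_cases hab : Da = Db
  · refine hqne ?_
    rw [← hτ]
    refine hDa1 _ (mul_mem hεDa (hab ▸ hε'Db)) (by
      rw [hτ]; exact Invol.isPGroup_zpowers (n := 1)
        (by rw [pow_one]; exact orderOf_eq_prime (by rw [pow_two]; exact hqq) hqne)) fun z hz => ?_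
    rw [hcen z (hDa.1 hz)]
    exact one_mem _
  · refine (orderOf_two_iff.1 hεord).2 (hDa1 ε hεDa hε2 fun z hz => ?_)
    have hεe : ε = ε * ε' * ε'⁻¹ := by rw [mul_inv_cancel_right]
    rw [hεe, show ⁅ε * ε' * ε'⁻¹, z⁆ = (ε * ε') * ⁅ε'⁻¹, z⁆ * (ε * ε')⁻¹ * ⁅ε * ε', z⁆ by
      simp only [commutatorElement_def]; group, hcen z (hDa.1 hz), mul_one]
    have h1 := comm_mem_core hDb hDa (Ne.symm hab) (inv_mem hε'Db) hz
    obtain ⟨w, hw, hwz⟩ := h1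
    have hτM : ε * ε' ∈ Cz (u * v) ⊓ Cz p := by
      rw [hτ]; exact ⟨mem_Cz'.2 (Commute.refl _), mem_Cz'.2 hqp⟩
    exact ⟨⟨_, hτM⟩ * w * ⟨_, hτM⟩⁻¹, pPrimeCore_isNormal.conj_mem w hw _, by rw [← hwz]; rfl⟩

/-- 2-elements of order at least 4 of `K` centralizing `v` normalize `J`. -/
theorem normalizes_of_order (hJ : Fund v J) (hK : Fund u K) (hsz : sz J = sz K) (hne : u ≠ v)
    (hy : y ∈ K) (hy2 : IsPGroup 2 (zpowers y)) (hyy : y * y ≠ 1) (hyv : Commute y v) :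
    y ∈ normalizer (J : Set G) := by
  by_contra hyN
  obtain ⟨g, g', P, M⟩ := exists_moving hJ hK hsz hne hy hy2 hyy hyv hyN
  obtain ⟨P₂, x, hx, L, S, hS, hyS, hxS, hy1, hx1, hxy⟩ := exists_local hJ hK hsz hne hy M hyN
  obtain ⟨x', hx', L', hyx'S, hx'1, hxy', hcong, hpN⟩ : ∃ x', ∃ hx' : x' ∈ K,
      LocalData v u J K y g P₂ x' ∧ sec hK ⟨x', hx'⟩ ∈ S ∧ sec hK ⟨x', hx'⟩ ≠ 1 ∧
        sec hK ⟨y, hy⟩ ≠ sec hK ⟨x', hx'⟩ ∧
        Cong v (g * (x' * (g * (y * g * y⁻¹) * x' * (g * (y * g * y⁻¹))⁻¹) * g *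
          (x' * (g * (y * g * y⁻¹) * x' * (g * (y * g * y⁻¹))⁻¹))⁻¹)) (g * (y * g * y⁻¹)) ∧
        (x' * (g * (y * g * y⁻¹) * x' * (g * (y * g * y⁻¹))⁻¹)) ∉ normalizer (J : Set G) := by
    have D := L.pair hK hy M
    obtain ⟨hn, h | h⟩ := M.swap hJ hK hyN D
    · exact ⟨x, hx, L, hxS, hx1, hxy, h, hn⟩
    · have L' := L.mul_right hy
      have hsx : sec hK ⟨x * y, mul_mem hx hy⟩ = sec hK ⟨x, hx⟩ * sec hK ⟨y, hy⟩ := by
        rw [← map_mul]; rfl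
      refine ⟨x * y, mul_mem hx hy, L', hsx ▸ mul_mem hxS hyS, ?_, ?_, ?_,
        (M.swap hJ hK hyN (L'.pair hK hy M)).1⟩
      · rw [hsx]
        intro e
        have h1 := congrArg (· * sec hK ⟨y, hy⟩) e
        simp only [one_mul] at h1
        rw [mul_assoc, ← map_mul (sec hK) ⟨y, hy⟩,
          show (⟨y, hy⟩ * ⟨y, hy⟩ : ↥K) = ⟨u, hK.mem⟩ from Subtype.ext M.yy, sec_u, mul_one] at h1
        exact hxy h1.symm
      · rw [hsx]
        exact fun e => hx1 (mul_eq_right.1 e.symm)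
      · rw [D.flip]; exact h
  obtain ⟨d, hdu, hde, hd1, hd2⟩ := exists_cycle hK hy M L' (L'.pair hK hy M) S hS hyS hyx'S hy1 hx'1 hxy'
  exact false_of_cycle hJ hK M (L'.pair hK hy M) hpN hcong hdu hde hd1 hd2

end Cfsg.Agent.Fus.FundPair
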