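import Cfsg.Agent.Lib.Fus.FundPair.Moving

/-!
The simple section of a component with one involution.
-/

set_option autoImplicit false
set_option linter.unusedSectionVars false
set_option linter.style.haveILetI false

namespace Cfsg.Agent.Fus.FundPair

open Subgroup Cfsg.Agent.Grp Cfsg.Agent.Invol
open scoped commutatorElement

universe u

variable {G : Type u} [Group G] [Finite G] {v u : G} {J K : Subgroup G}

/-- The map of a component onto its image in the centralizer modulo the core. -/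
def imgHom (h : Fund u K) : ↥K →* ↥(img u K) :=
  ((QuotientGroup.mk' (Cfsg.pPrimeCore 2 ↥(Cz u))).comp (inclusion h.le)).codRestrict (img u K)
    fun k => mem_img k.2 (h.le k.2)

/-- The map of a component onto its simple section. -/
def sec (h : Fund u K) : ↥K →* ↥(img u K) ⧸ Subgroup.center ↥(img u K) :=
  (QuotientGroup.mk' _).comp (imgHom h)

theorem sec_surjective (h : Fund u K) : Function.Surjective (sec h) := by
  intro X
  obtain ⟨⟨z, hz⟩, rfl⟩ := QuotientGroup.mk'_surjective _ X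
  obtain ⟨k, hk, hkz⟩ := hz
  exact ⟨⟨k, hk⟩, congrArg (QuotientGroup.mk' (Subgroup.center ↥(img u K))) (Subtype.ext hkz)⟩

theorem sec_eq (h : Fund u K) {k k' : ↥K} (he : sec h k = sec h k') :
    qz (h.le k'.2) = qz (h.le k.2) ∨ qz (h.le k'.2) = qz (h.le k.2) * qz (h.le h.mem) := by
  have h1 := mem_center_iff.1 (QuotientGroup.eq.1 (show
    QuotientGroup.mk (imgHom h k) = QuotientGroup.mk (imgHom h k') from he))
  rcases h.center_img ((imgHom h k)⁻¹ * imgHom h k').2 (mem_centralizer_iff.2 fun g hg =>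
    congrArg Subtype.val (h1 ⟨g, hg⟩)) with e | e
  · left
    exact (inv_mul_eq_one.1 (show (qz (h.le k.2))⁻¹ * qz (h.le k'.2) = 1 from e)).symm
  · right
    exact inv_mul_eq_iff_eq_mul.1 (show (qz (h.le k.2))⁻¹ * qz (h.le k'.2) = qz (h.le h.mem) from e)

theorem sec_u (h : Fund u K) : sec h ⟨u, h.mem⟩ = 1 := by
  refine (QuotientGroup.eq_one_iff _).2 (mem_center_iff.2 fun g => Subtype.ext ?_)
  obtain ⟨⟨w, hwC⟩, hw, hwg⟩ := g.2
  show (g : ↥(Cz u) ⧸ Cfsg.pPrimeCore 2 ↥(Cz u)) * qz (h.le h.mem) = qz (h.le h.mem) * g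
  rw [← hwg, ← map_mul, ← map_mul]
  exact congrArg _ (Subtype.ext (h.commute_v hw).eq)

theorem sec_two (h : Fund u K) {x : G} (hx : x ∈ K) (h2 : IsPGroup 2 (zpowers x))
    (he : sec h ⟨x, hx⟩ = 1) : x = 1 ∨ x = u := by
  have h1 := mem_center_iff.1 ((QuotientGroup.eq_one_iff (imgHom h ⟨x, hx⟩)).1 he)
  exact h.two_of_cent hx h2 ((cent_iff h (h.le hx)).2
    (mem_centralizer_iff.2 fun g hg => congrArg Subtype.val (h1 ⟨g, hg⟩)))

theorem sec_eq_of_two (h : Fund u K) {P : Subgroup G} (hP : IsPGroup 2 P) {x x' : G} (hx : x ∈ K)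
    (hx' : x' ∈ K) (hxP : x ∈ P) (hxP' : x' ∈ P) (he : sec h ⟨x, hx⟩ = sec h ⟨x', hx'⟩) :
    x' = x ∨ x' = x * u := by
  rcases sec_two h (mul_mem (inv_mem hx) hx') (isPGroup_of_mem hP (mul_mem (inv_mem hxP) hxP'))
    (by
      rw [show (⟨x⁻¹ * x', mul_mem (inv_mem hx) hx'⟩ : ↥K) = ⟨x, hx⟩⁻¹ * ⟨x', hx'⟩ from rfl,
        map_mul, map_inv, he, inv_mul_cancel]) with e | e
  · exact Or.inl (inv_mul_eq_one.1 e).symm
  · exact Or.inr (inv_mul_eq_iff_eq_mul.1 e)

theorem sec_no_index_two (h : Fund u K) (N : Subgroup (↥(img u K) ⧸ Subgroup.center ↥(img u K)))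
    (hN : N.Normal) : N.index ≠ 2 := by
  haveI : IsSimpleGroup (↥(img u K) ⧸ Subgroup.center ↥(img u K)) := h.img_comp.2.2
  intro h2
  rcases hN.eq_bot_or_eq_top with rfl | rfl
  · rw [index_bot] at h2
    haveI : IsCyclic (↥(img u K) ⧸ Subgroup.center ↥(img u K)) := isCyclic_of_prime_card (p := 2) h2
    refine IsQuasisimple.center_ne_top h.img_comp.2 (eq_top_iff.2 fun a _ => mem_center_iff.2
      fun b => (MonoidHom.isMulCommutative_of_isCyclic_of_ker_le_center
        (QuotientGroup.mk' (Subgroup.center ↥(img u K)))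
        (by rw [QuotientGroup.ker_mk'])).is_comm.comm b a)
  · rw [index_top] at h2
    omega

end Cfsg.Agent.Fus.FundPair
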