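import Cfsg.Agent.Lib.Fus.FundPair.Basic
import Cfsg.Agent.Lib.Invol.BSLocal

/-!
The Sylow 2-subgroups of a 2-component with one involution are generalized quaternion.
-/

set_option autoImplicit false
set_option linter.unusedSectionVars false
set_option linter.style.haveILetI false

namespace Cfsg.Agent.Fus.FundPair

open Subgroup Cfsg.Agent.Grp Cfsg.Agent.Invol
open scoped commutatorElement

universe u

variable {G : Type u} [Group G] [Finite G]

/-- A Sylow 2-subgroup of `J`, as a subgroup of the group. -/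
def IsSylJ (Q J : Subgroup G) : Prop :=
  Q ≤ J ∧ IsPGroup 2 Q ∧ ¬ 2 ∣ Q.relIndex J

/-- Generalized quaternion: `v` the involution, `a` the generator of the cyclic part. -/
structure Quat (v : G) (Q : Subgroup G) (a : G) : Prop where
  mem : a ∈ Q
  four : 4 ∣ orderOf a
  out : ∀ x ∈ Q, x ∈ zpowers a ∨ (x * a * x⁻¹ = a⁻¹ ∧ x * x = v)
  ex : ∃ x ∈ Q, x ∉ zpowers a
  index : (zpowers a).relIndex Q = 2

variable {v : G} {J Q : Subgroup G}

theorem isPGroup_zpowers_coe' {x : ↥J} (h : IsPGroup 2 (zpowers x)) :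
    IsPGroup 2 (zpowers (x : G)) :=
  (isPGroup_zpowers_coe x).1 h

theorem exists_sylJ_of_pGroup {A : Subgroup G} (hAJ : A ≤ J) (hA : IsPGroup 2 A) :
    ∃ Q, A ≤ Q ∧ IsSylJ Q J := by
  haveI : Fact (Nat.Prime 2) := ⟨Nat.prime_two⟩
  obtain ⟨S, hS⟩ :=
    (hA.comap_of_injective J.subtype J.subtype_injective : IsPGroup 2 (A.subgroupOf J)).exists_le_sylow
  refine ⟨(S : Subgroup ↥J).map J.subtype, fun x hx => ⟨⟨x, hAJ hx⟩, hS hx, rfl⟩,
    map_subtype_le _, S.isPGroup'.map _, ?_⟩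
  rw [← Subgroup.inf_relIndex_right, inf_eq_left.2 (map_subtype_le _), Subgroup.relIndex,
    subgroupOf, comap_map_eq_self_of_injective J.subtype_injective]
  exact S.not_dvd_index

theorem Fund.sylJ_of_max (h : Fund v J) {P : Subgroup G} (hPC : P ≤ Cz v) (hP : IsPGroup 2 P)
    (hmax : ∀ Q : Subgroup G, Q ≤ Cz v → IsPGroup 2 Q → P ≤ Q → Q = P) : IsSylJ (P ⊓ J) J := by
  haveI : Fact (Nat.Prime 2) := ⟨Nat.prime_two⟩
  obtain ⟨S, hS⟩ := h.exists_sylow hPC hP hmax
  refine ⟨inf_le_right, hP.to_le inf_le_left, ?_⟩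
  rw [Subgroup.inf_relIndex_right, Subgroup.relIndex, ← hS]
  exact S.not_dvd_index

theorem Fund.v_mem_sylJ (h : Fund v J) (hQ : IsSylJ Q J) : v ∈ Q := by
  haveI : Fact (Nat.Prime 2) := ⟨Nat.prime_two⟩
  have hp : IsPGroup 2 (Q.subgroupOf J) := hQ.2.1.comap_of_injective _ J.subtype_injective
  have hev : Even (Nat.card Q) := by
    by_contra hodd
    refine hQ.2.2 ?_
    have he : 2 ∣ Nat.card J := h.ord ▸ Subgroup.orderOf_dvd_natCard J h.mem
    rw [← Subgroup.card_mul_index (Q.subgroupOf J), Nat.card_congr (subgroupOfEquivOfLe hQ.1).toEquiv]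
      at he
    exact (Nat.prime_two.dvd_mul.1 he).resolve_left fun hd => hodd (even_iff_two_dvd.2 hd)
  obtain ⟨t, ht, ht2⟩ := Invol.exists_orderOf_two_mem hev
  exact h.uniq t (hQ.1 ht) ht2 ▸ ht

theorem Fund.not_cyclic (h : Fund v J) (hQ : IsSylJ Q J) : ¬ IsCyclic Q := by
  haveI : Fact (Nat.Prime 2) := ⟨Nat.prime_two⟩
  intro hc
  have hp : IsPGroup 2 (Q.subgroupOf J) := hQ.2.1.comap_of_injective _ J.subtype_injective
  set S : Sylow 2 ↥J := hp.toSylow hQ.2.2 with hS
  haveI : IsCyclic (S : Subgroup ↥J) :=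
    isCyclic_of_surjective (subgroupOfEquivOfLe hQ.1).symm.toMonoidHom
      (subgroupOfEquivOfLe hQ.1).symm.surjective
  have hmin : (Nat.card ↥J).minFac = 2 :=
    (Nat.minFac_eq_two_iff _).2 (h.ord ▸ Subgroup.orderOf_dvd_natCard J h.mem)
  have hcompl := IsCyclic.isComplement' hmin (P := S) inferInstance
  set N := (MonoidHom.transferSylow S ((inferInstance : IsCyclic (S : Subgroup ↥J)).normalizer_le_centralizer hmin)).ker
  have hperf : commutator ↥J = ⊤ :=
    (Subgroup.isPerfect_iff.2 h.perfect).commutator_eq_top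
  haveI : IsMulCommutative ↥(S : Subgroup ↥J) := by
    letI := IsCyclic.commGroup (α := ↥(S : Subgroup ↥J))
    exact ⟨⟨mul_comm⟩⟩
  have hcomm : commutator ↥J ≤ N := by
    rw [commutator_def, Subgroup.commutator_le]
    intro a _ b _
    rw [MonoidHom.mem_ker, map_commutatorElement, commutatorElement_eq_one_iff_mul_comm]
    exact Std.Commutative.comm _ _
  rw [hperf, top_le_iff] at hcomm
  have hbot : (S : Subgroup ↥J) = ⊥ := by
    have := hcompl.disjoint
    rwa [hcomm, top_disjoint] at this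
  have hv : (⟨v, h.mem⟩ : ↥J) ∈ (S : Subgroup ↥J) := h.v_mem_sylJ hQ
  rw [hbot, Subgroup.mem_bot] at hv
  exact orderOf_eq_one_iff.not.1 (by rw [h.ord]; decide) (congrArg Subtype.val hv)

theorem Fund.quat (h : Fund v J) (hQ : IsSylJ Q J) : ∃ a, Quat v Q a := by
  haveI : Fact (Nat.Prime 2) := ⟨Nat.prime_two⟩
  rcases OneInvol.cyclic_or_quatShape hQ.2.1 (fun u w hu hw => Subtype.ext
      ((h.uniq u (hQ.1 u.2) (by rwa [Subgroup.orderOf_coe])).trans
        (h.uniq w (hQ.1 w.2) (by rwa [Subgroup.orderOf_coe])).symm)) with hc | ⟨a, ha4, hidx, hinv⟩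
  · exact absurd hc (h.not_cyclic hQ)
  have hz : ∀ x : ↥Q, (x : G) ∈ zpowers (a : G) ↔ x ∈ zpowers a := fun x => by
    constructor
    · rintro ⟨i, hi⟩
      exact ⟨i, Subtype.ext (by simpa using hi)⟩
    · rintro ⟨i, hi⟩
      exact ⟨i, by rw [← hi]; simp⟩
  refine ⟨a, a.2, by rwa [Subgroup.orderOf_coe], fun x hx => ?_, ?_, ?_⟩
  · refine or_iff_not_imp_left.2 fun hxa => ?_
    have hxa' : (⟨x, hx⟩ : ↥Q) ∉ zpowers a := fun hh => hxa ((hz ⟨x, hx⟩).2 hh)
    have h1 : x * a * x⁻¹ = (a : G)⁻¹ := congrArg Subtype.val (hinv ⟨x, hx⟩ hxa')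
    refine ⟨h1, ?_⟩
    obtain ⟨i, hi⟩ := mem_zpowers_iff.1 (mul_self_mem_of_index_two hidx ⟨x, hx⟩)
    have hi' : (a : G) ^ i = x * x := by simpa using congrArg Subtype.val hi
    have h4 : (x * x) * (x * x) = 1 := by
      have e1 : x * (x * x) * x⁻¹ = (x * x)⁻¹ := by
        rw [← hi', ← conj_zpow, h1, inv_zpow]
      rw [show x * (x * x) * x⁻¹ = x * x by group] at e1
      exact mul_eq_one_iff_eq_inv.2 e1
    have hne : x * x ≠ 1 := by
      intro h0
      rcases eq_or_ne x 1 with rfl | hx1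
      · exact hxa (one_mem _)
      have := h.uniq x (hQ.1 hx) (orderOf_eq_prime (by rwa [pow_two]) hx1)
      obtain ⟨k, hk⟩ := IsPGroup.iff_orderOf.1 hQ.2.1 a
      rw [← Subgroup.orderOf_coe] at hk
      have hk2 : 2 ≤ k := by
        rw [← Subgroup.orderOf_coe, hk] at ha4
        by_contra hlt
        interval_cases k <;> omega
      refine hxa ?_
      rw [this]
      have h2 : orderOf ((a : G) ^ 2 ^ (k - 1)) = 2 := by
        rw [orderOf_pow_of_dvd (by positivity) (by rw [hk]; exact pow_dvd_pow 2 (by omega)), hk,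
          Nat.pow_div (by omega) two_pos, show k - (k - 1) = 1 by omega, pow_one]
      rw [← h.uniq _ (hQ.1 (pow_mem a.2 _)) h2]
      exact npow_mem_zpowers _ _
    exact h.uniq _ (hQ.1 (mul_mem hx hx)) (orderOf_eq_prime (by rwa [pow_two]) hne)
  · by_contra hcon
    push Not at hcon
    have : zpowers a = ⊤ := eq_top_iff.2 fun x _ => (hz x).1 (hcon x x.2)
    rw [this, index_top] at hidx
    omega
  · rw [Subgroup.relIndex, show (zpowers (a : G)).subgroupOf Q = zpowers a from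
      SetLike.ext fun x => hz x]
    exact hidx

/-- An element of `Q` commuting with all of `Q` is `1` or the involution. -/
theorem Quat.central {a : G} (h : Fund v J) (hQ : IsSylJ Q J) (hq : Quat v Q a) {z : G}
    (hz : z ∈ Q) (hc : ∀ x ∈ Q, Commute z x) : z = 1 ∨ z = v := by
  by_cases h1 : z = 1
  · exact Or.inl h1
  refine Or.inr (h.uniq z (hQ.1 hz) (orderOf_eq_prime ?_ h1))
  rw [pow_two]
  obtain ⟨x, hx, hxa⟩ := hq.ex
  obtain hxz | ⟨hinv, -⟩ := hq.out x hx
  · exact absurd hxz hxa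
  have haa : z ∈ zpowers a := by
    rcases hq.out z hz with hh | ⟨hh, -⟩
    · exact hh
    exfalso
    have e : z * a * z⁻¹ = a := by rw [(hc a hq.mem).eq, mul_inv_cancel_right]
    rw [e, eq_inv_iff_mul_eq_one, ← pow_two] at hh
    have h2 := Nat.le_of_dvd two_pos (hq.four.trans (orderOf_dvd_of_pow_eq_one hh))
    omega
  obtain ⟨i, rfl⟩ := haa
  have e : x * a ^ i * x⁻¹ = a ^ i := by
    rw [← (show Commute (a ^ i) x from hc x hx).eq, mul_inv_cancel_right]
  rw [← conj_zpow, hinv, inv_zpow] at e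
  exact inv_eq_iff_mul_eq_one.1 e

/-- A map agreeing with the identity on the elements of order 4 fixes `Q`. -/
theorem Quat.fix {a c : G} (hq : Quat v Q a)
    (hc : ∀ x ∈ Q, x * x = v → c * x * c⁻¹ = x) : ∀ x ∈ Q, c * x * c⁻¹ = x := by
  obtain ⟨y, hy, hya⟩ := hq.ex
  have hout : ∀ x ∈ Q, x ∉ zpowers a → c * x * c⁻¹ = x := fun x hx hxa =>
    hc x hx ((hq.out x hx).resolve_left hxa).2
  intro x hx
  by_cases hxa : x ∈ zpowers a
  · have hyx : y * x ∉ zpowers a := fun hh => hya (by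
      simpa using mul_mem hh (inv_mem hxa))
    have h1 := hout _ (mul_mem hy hx) hyx
    rw [show c * (y * x) * c⁻¹ = (c * y * c⁻¹) * (c * x * c⁻¹) by group, hout y hy hya] at h1
    exact mul_left_cancel h1
  · exact hout x hx hxa

/-- A 2-element centralizing its component modulo the core is `1` or the involution. -/
theorem Fund.two_of_cent (h : Fund v J) {x : G} (hx : x ∈ J) (h2 : IsPGroup 2 (zpowers x))
    (hc : Cent v x J) : x = 1 ∨ x = v := by
  obtain ⟨Q, hAQ, hQ⟩ := exists_sylJ_of_pGroup (zpowers_le.2 hx) h2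
  obtain ⟨a, ha⟩ := h.quat hQ
  refine ha.central h hQ (hAQ (mem_zpowers x)) fun y hy => ?_
  refine commutatorElement_eq_one_iff_mul_comm.1 (eq_one_of_mem_Oz (hc y (hQ.1 hy))
    (isPGroup_of_mem hQ.2.1 ?_))
  rw [commutatorElement_def]
  exact mul_mem (mul_mem (mul_mem (hAQ (mem_zpowers x)) hy) (inv_mem (hAQ (mem_zpowers x))))
    (inv_mem hy)

/-- Two components share only `1` and the involution among the 2-elements. -/
theorem Fund.two_of_mem_both (h : Fund v J) {J' : Subgroup G} (h' : Fund v J') (hne : J ≠ J')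
    {x : G} (hx : x ∈ J) (hx' : x ∈ J') (h2 : IsPGroup 2 (zpowers x)) : x = 1 ∨ x = v :=
  h.two_of_cent hx h2 fun j hj => comm_mem_Oz h' h (Ne.symm hne) hx' hj

/-- A conjugate of the component containing a 2-element of order at least 4 of it is itself. -/
theorem Fund.eq_of_mem (h : Fund v J) {J' : Subgroup G} (h' : Fund v J') {x : G} (hx : x ∈ J)
    (hx' : x ∈ J') (h2 : IsPGroup 2 (zpowers x)) (h4 : x * x ≠ 1) : J = J' := by
  by_contra hne
  rcases h.two_of_mem_both h' hne hx hx' h2 with rfl | rfl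
  · exact h4 (one_mul 1)
  · exact h4 (by rw [← pow_two, ← h.ord, pow_orderOf_eq_one])

end Cfsg.Agent.Fus.FundPair
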