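import Cfsg.Agent.Lib.Fus.FundPair.Local

/-!
The involution `x x'` interchanges the two components through `e`.
-/

set_option autoImplicit false
set_option linter.unusedSectionVars false
set_option linter.style.haveILetI false

namespace Cfsg.Agent.Fus.FundPair

open Subgroup Cfsg.Agent.Grp Cfsg.Agent.Invol
open scoped commutatorElement

universe u

variable {G : Type u} [Group G] [Finite G] {v u y g g' x p : G} {J K P : Subgroup G}

theorem qz_mul {a b : G} (ha : a ∈ Cz v) (hb : b ∈ Cz v) :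
    qz (mul_mem ha hb) = qz ha * qz hb :=
  map_mul (QuotientGroup.mk' (Cfsg.pPrimeCore 2 ↥(Cz v))) ⟨a, ha⟩ ⟨b, hb⟩

theorem qz_conj {a b : G} (ha : a ∈ Cz v) (hb : b ∈ Cz v) :
    qz (mul_mem (mul_mem ha hb) (inv_mem ha)) = qz ha * qz hb * (qz ha)⁻¹ := by
  rw [qz_mul (mul_mem ha hb) (inv_mem ha), qz_mul ha hb]; rfl

theorem qz_congr {a b : G} (ha : a ∈ Cz v) (hb : b ∈ Cz v) (h : a = b) : qz ha = qz hb := by
  subst h; rfl

theorem MovingData.swap (hJ : Fund v J) (hK : Fund u K) (M : MovingData v u J K y g g' P)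
    (hyN : y ∉ normalizer (J : Set G))
    (D : PairData v u K y x (g * (y * g * y⁻¹)) p) :
    p ∉ normalizer (J : Set G) ∧
      (Cong v (g * (p * g * p⁻¹)) (g * (y * g * y⁻¹)) ∨
        Cong v (g * (p * u * v * g * (p * u * v)⁻¹)) (g * (y * g * y⁻¹))) := by
  haveI : Fact (Nat.Prime 2) := ⟨Nat.prime_two⟩
  have hpC : p ∈ Cz v := mem_Cz'.2 D.pv
  have hyC : y ∈ Cz v := mem_Cz'.2 M.yv
  have huC : u ∈ Cz v := mem_Cz'.2 M.uv
  have hvC : v ∈ Cz v := mem_Cz'.2 (Commute.refl v)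
  have hgC : g ∈ Cz v := M.pC M.gP
  set g₁ := y * g * y⁻¹ with hg₁
  set J₁ := J.map (MulAut.conj y).toMonoidHom with hJ₁
  have hJ₁F : Fund v J₁ := hJ.conj_mem hyC
  have hne : J ≠ J₁ := fun e => hyN (conj_eq_self_iff.1 e.symm)
  have hg₁C : g₁ ∈ Cz v := mul_mem (mul_mem hyC hgC) (inv_mem hyC)
  have hg₁J : g₁ ∈ J₁ := ⟨g, M.gJ, rfl⟩
  have hppinv : p⁻¹ = p := inv_eq_of_mul_eq_one_left D.pp
  -- the images
  set gp := p * g * p⁻¹ with hgp
  set gp₁ := p * g₁ * p⁻¹ with hgp₁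
  have hgpC : gp ∈ Cz v := mul_mem (mul_mem hpC hgC) (inv_mem hpC)
  have hgp₁C : gp₁ ∈ Cz v := mul_mem (mul_mem hpC hg₁C) (inv_mem hpC)
  set V := qz hvC with hV
  have hVV : V * V = 1 := by
    rw [hV, ← qz_mul hvC hvC, qz_congr (mul_mem hvC hvC) (one_mem _) hJ.vv]
    exact map_one _
  have hV1 : V ≠ 1 := fun e => hJ.not_mem_Oz ((mem_Oz_iff hvC).2 ((QuotientGroup.eq_one_iff _).1 e))
  have hVc : ∀ {a : G} (ha : a ∈ Cz v), Commute V (qz ha) := fun {a} ha => by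
    show V * qz ha = qz ha * V
    rw [hV, ← qz_mul hvC ha, ← qz_mul ha hvC]
    exact qz_congr _ _ (mem_Cz'.1 ha).symm.eq
  have hG1V : qz hg₁C * qz hg₁C = V := by
    rw [← qz_mul hg₁C hg₁C]
    refine qz_congr _ _ ?_
    rw [hg₁, show y * g * y⁻¹ * (y * g * y⁻¹) = y * (g * g) * y⁻¹ by group, M.gg, M.yv.eq,
      mul_inv_cancel_right]
  have hG1inv : (qz hg₁C)⁻¹ = V * qz hg₁C := by
    refine inv_eq_of_mul_eq_one_left ?_
    rw [mul_assoc, hG1V, hVV]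
  have hE : qz hgC * qz hg₁C = qz hgpC * qz hgp₁C := by
    rw [← qz_mul hgC hg₁C, ← qz_mul hgpC hgp₁C]
    refine qz_congr _ _ ?_
    rw [hgp, hgp₁, show p * g * p⁻¹ * (p * g₁ * p⁻¹) = p * (g * g₁) * p⁻¹ by group, D.pe.eq,
      mul_inv_cancel_right]
  have hJp := hJ.conj_mem hpC
  have hJp₁ := hJ₁F.conj_mem hpC
  set Jp := J.map (MulAut.conj p).toMonoidHom
  set Jp₁ := J₁.map (MulAut.conj p).toMonoidHom
  have hcomm : ∀ {A B : Subgroup G}, Fund v A → Fund v B → A ≠ B → ∀ {a b : G} (ha : a ∈ Cz v)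
      (hb : b ∈ Cz v), a ∈ A → b ∈ B → Commute (qz ha) (qz hb) := fun {A B} hA hB h {a b} ha hb haA hbB =>
    (mem_centralizer_iff.1 (IsComponent.commute hA.img_comp hB.img_comp
      (fun e => h (img_inj hA hB e)) (mem_img haA _)) _ (mem_img hbB _)).symm
  -- `J` is one of the two
  have hone : Jp = J ∨ Jp₁ = J := by
    by_contra hcon
    push Not at hcon
    have hg'C : g' ∈ Cz v := M.pC M.g'P
    have c1 := hcomm hJ hJp hcon.1.symm hg'C hgpC M.g'J ⟨g, M.gJ, rfl⟩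
    have c2 := hcomm hJ hJp₁ hcon.2.symm hg'C hgp₁C M.g'J ⟨g₁, hg₁J, rfl⟩
    have c3 : Commute (qz hg'C) (qz (mul_mem hgC hg₁C)) := by
      rw [qz_mul hgC hg₁C, hE]; exact c1.mul_right c2
    refine hJ.not_mem_Oz ?_
    have hcg : Commute g' g₁ := commute_in hJ hJ₁F hne M.pgroup M.g'J hg₁J M.g'P
      (mul_mem (mul_mem M.yP M.gP) (inv_mem M.yP))
    have h1 : g' * (g * g₁) * g'⁻¹ = v * (g * g₁) := by
      have h2 : g⁻¹ = v * g := eq_comm.1 (eq_inv_of_mul_eq_one_left (by rw [mul_assoc, M.gg, hJ.vv]))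
      rw [show g' * (g * g₁) * g'⁻¹ = g' * g * g'⁻¹ * (g' * g₁ * g'⁻¹) by group, M.anti, hcg.eq,
        mul_inv_cancel_right, h2, mul_assoc]
    have h3 : V * qz (mul_mem hgC hg₁C) = qz (mul_mem hgC hg₁C) := by
      rw [hV, ← qz_mul hvC (mul_mem hgC hg₁C), qz_congr (mul_mem hvC (mul_mem hgC hg₁C))
        (mul_mem (mul_mem hg'C (mul_mem hgC hg₁C)) (inv_mem hg'C)) h1.symm,
        qz_conj hg'C (mul_mem hgC hg₁C), c3.eq, mul_inv_cancel_right]
    exact absurd (mul_eq_right.1 h3) hV1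
  -- not fixed
  have hnfix : Jp ≠ J := by
    intro hfix
    have hpN : p ∈ normalizer (J : Set G) := conj_eq_self_iff.1 hfix
    have hpy : p * y = y * (u * p) := by
      have h1 : y⁻¹ * p * y = u * p := by
        have hyu : Commute y u := by rw [← M.yy]; exact (Commute.refl y).mul_right (Commute.refl y)
        have h2 : y⁻¹ * (u * p) * y = p := by rw [← D.ypy]; group
        calc y⁻¹ * p * y = u⁻¹ * (u * (y⁻¹ * p * y)) := by group
          _ = u⁻¹ * (y⁻¹ * (u * p) * y) := by rw [← mul_assoc y⁻¹ u p, hyu.inv_left.eq]; group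
          _ = u * p := by
            rw [h2, hK.v_inv]
      rw [← h1]; group
    have hfix₁ : Jp₁ = J₁ := by
      show (J.map _).map _ = J.map _
      rw [conj_conj, hpy, ← conj_conj, conj_eq_self_iff.2 (mul_mem M.uJ hpN)]
    have hgpJ : gp ∈ J := (mem_normalizer_iff.1 hpN g).1 M.gJ
    have hgp₁J : gp₁ ∈ J₁ := hfix₁ ▸ (⟨g₁, hg₁J, rfl⟩ : gp₁ ∈ Jp₁)
    set c := (qz hgC)⁻¹ * qz hgpC with hc
    have hcL : c ∈ img v J := mul_mem (inv_mem (mem_img M.gJ _)) (mem_img hgpJ _)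
    have hcL' : c = qz hg₁C * (qz hgp₁C)⁻¹ := by
      calc c = (qz hgC)⁻¹ * (qz hgpC * qz hgp₁C) * (qz hgp₁C)⁻¹ := by rw [hc]; group
        _ = _ := by rw [← hE]; group
    have hcc : c = 1 ∨ c = V := hJ.center_img hcL (by
      refine IsComponent.commute hJ₁F.img_comp hJ.img_comp (fun e => hne (img_inj hJ hJ₁F e.symm)) ?_
      rw [hcL']; exact mul_mem (mem_img hg₁J _) (inv_mem (mem_img hgp₁J _)))
    have hcC : ∀ {a : G} (ha : a ∈ Cz v), Commute c (qz ha) := fun ha => by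
      rcases hcc with e | e <;> rw [e]
      · exact Commute.one_left _
      · exact hVc ha
    have hci : c⁻¹ = c := by
      rcases hcc with e | e <;> rw [e]
      · exact inv_one
      · exact inv_eq_of_mul_eq_one_left hVV
    have e1 : qz hgp₁C = c * qz hg₁C := by
      calc qz hgp₁C = (qz hg₁C * (qz hgp₁C)⁻¹)⁻¹ * qz hg₁C := by group
        _ = _ := by rw [← hcL', hci]
    have e2 : qz hgp₁C = qz hyC * (qz huC * qz hgpC * (qz huC)⁻¹) * (qz hyC)⁻¹ := by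
      rw [← qz_conj huC hgpC, ← qz_conj hyC (mul_mem (mul_mem huC hgpC) (inv_mem huC))]
      refine qz_congr _ _ ?_
      rw [hgp₁, hg₁, hgp, show p * (y * g * y⁻¹) * p⁻¹ = (p * y) * g * (p * y)⁻¹ by group, hpy]
      group
    have e3 : qz huC * qz hgC * (qz huC)⁻¹ = (qz hgC)⁻¹ := by
      rw [← qz_conj huC hgC]; exact qz_congr _ (inv_mem hgC) M.ugu
    have e4 : qz hgpC = qz hgC * c := by rw [hc, mul_inv_cancel_left]
    have f0 : qz hyC * qz hgC * (qz hyC)⁻¹ = qz hg₁C := (qz_conj hyC hgC).symm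
    have f1 : qz huC * qz hgpC * (qz huC)⁻¹ = (qz hgC)⁻¹ * c := by
      calc qz huC * qz hgpC * (qz huC)⁻¹
          = qz huC * qz hgC * (qz huC)⁻¹ * (qz huC * c * (qz huC)⁻¹) := by rw [e4]; group
        _ = _ := by rw [e3, ← (hcC huC).eq, mul_inv_cancel_right]
    have f2 : qz hgp₁C = V * qz hg₁C * c := by
      calc qz hgp₁C = qz hyC * ((qz hgC)⁻¹ * c) * (qz hyC)⁻¹ := by rw [e2, f1]
        _ = (qz hyC * qz hgC * (qz hyC)⁻¹)⁻¹ * (qz hyC * c * (qz hyC)⁻¹) := by group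
        _ = _ := by rw [f0, ← (hcC hyC).eq, mul_inv_cancel_right, hG1inv]
    rw [e1, mul_assoc V, ← (hcC hg₁C).eq] at f2
    exact hV1 (mul_eq_right.1 f2.symm)
  have hJ₁p : Jp₁ = J := hone.resolve_left hnfix
  have hswap : Jp = J₁ := by
    have h2 : (Jp₁.map (MulAut.conj p).toMonoidHom) = J₁ := by
      show (J₁.map _).map _ = J₁
      rw [conj_conj, D.pp, conj_one]
    rwa [hJ₁p] at h2
  refine ⟨fun h => hnfix (conj_eq_self_iff.2 h), ?_⟩
  have hgpJ : gp ∈ J₁ := hswap ▸ (⟨g, M.gJ, rfl⟩ : gp ∈ Jp)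
  have hgp₁J : gp₁ ∈ J := hJ₁p ▸ (⟨g₁, hg₁J, rfl⟩ : gp₁ ∈ Jp₁)
  have hE' : qz hgC * qz hg₁C = qz hgp₁C * qz hgpC :=
    hE.trans (hcomm hJ₁F hJ hne.symm hgpC hgp₁C hgpJ hgp₁J).eq
  set c := (qz hgC)⁻¹ * qz hgp₁C with hc
  have hcL' : c = qz hg₁C * (qz hgpC)⁻¹ := by
    calc c = (qz hgC)⁻¹ * (qz hgp₁C * qz hgpC) * (qz hgpC)⁻¹ := by rw [hc]; group
      _ = _ := by rw [← hE']; group
  have hcc : c = 1 ∨ c = V := hJ.center_img
    (mul_mem (inv_mem (mem_img M.gJ _)) (mem_img hgp₁J _)) (by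
      refine IsComponent.commute hJ₁F.img_comp hJ.img_comp (fun e => hne (img_inj hJ hJ₁F e.symm)) ?_
      show c ∈ img v J₁
      rw [hcL']; exact mul_mem (mem_img hg₁J _) (inv_mem (mem_img hgpJ _)))
  rw [hcL', mul_inv_eq_one, mul_inv_eq_iff_eq_mul] at hcc
  rcases hcc with e | e
  · refine Or.inl ((mk_eq_iff (mul_mem hgC hgpC) (mul_mem hgC hg₁C)).1 ?_)
    show qz (mul_mem hgC hgpC) = qz (mul_mem hgC hg₁C)
    rw [qz_mul hgC hgpC, qz_mul hgC hg₁C, e]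
  · have hqC : p * u * v ∈ Cz v := mul_mem (mul_mem hpC huC) hvC
    refine Or.inr ((mk_eq_iff (mul_mem hgC (mul_mem (mul_mem hqC hgC) (inv_mem hqC)))
      (mul_mem hgC hg₁C)).1 ?_)
    show qz (mul_mem hgC (mul_mem (mul_mem hqC hgC) (inv_mem hqC))) = qz (mul_mem hgC hg₁C)
    rw [qz_mul hgC (mul_mem (mul_mem hqC hgC) (inv_mem hqC)), qz_mul hgC hg₁C, qz_conj hqC hgC]
    congr 1
    have f1 : qz hqC = qz hpC * qz huC * V := by
      rw [hV, ← qz_mul hpC huC, ← qz_mul (mul_mem hpC huC) hvC]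
    have e3 : qz huC * qz hgC * (qz huC)⁻¹ = (qz hgC)⁻¹ := by
      rw [← qz_conj huC hgC]; exact qz_congr _ (inv_mem hgC) M.ugu
    calc qz hqC * qz hgC * (qz hqC)⁻¹
        = qz hpC * (qz huC * (V * qz hgC * V⁻¹) * (qz huC)⁻¹) * (qz hpC)⁻¹ := by rw [f1]; group
      _ = (qz hpC * qz hgC * (qz hpC)⁻¹)⁻¹ := by
          rw [(hVc hgC).eq, mul_inv_cancel_right, e3]; group
      _ = (qz hgpC)⁻¹ := by rw [← qz_conj hpC hgC]
      _ = qz hg₁C := by
          rw [show qz hgpC = V * qz hg₁C by rw [e, ← mul_assoc, hVV, one_mul], mul_inv_rev, hG1inv,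
            (hVc hg₁C).eq, mul_inv_cancel_right]

end Cfsg.Agent.Fus.FundPair
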