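import Cfsg.Agent.Lib.Fus.FundPair.Diag

/-!
Transport by automorphisms, and small facts about elements of order 4.
-/

set_option autoImplicit false
set_option linter.unusedSectionVars false
set_option linter.style.haveILetI false

namespace Cfsg.Agent.Fus.FundPair

open Subgroup Cfsg.Agent.Grp Cfsg.Agent.Invol
open scoped commutatorElement

universe u

variable {G : Type u} [Group G] [Finite G] {v u : G} {J K Q : Subgroup G}

theorem Fund.vv (h : Fund v J) : v * v = 1 := by rw [← pow_two, ← h.ord, pow_orderOf_eq_one]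

theorem Fund.v_inv (h : Fund v J) : v⁻¹ = v := inv_eq_of_mul_eq_one_left h.vv

theorem Fund.v_ne (h : Fund v J) : v ≠ 1 := (orderOf_two_iff.1 h.ord).2

theorem Fund.not_mem_Oz (h : Fund v J) : v ∉ Oz v := fun hm =>
  h.v_ne (eq_one_of_mem_Oz hm (Invol.isPGroup_zpowers (n := 1) (by rw [h.ord, pow_one])))

theorem Oz_map_mem (e : G ≃* G) {x : G} (hx : x ∈ Oz v) : e x ∈ Oz (e v) := by
  obtain ⟨w, hw, rfl⟩ := hx
  let f : ↥(Cz v) ≃* ↥(Cz (e v)) :=
    (e.subgroupMap (Cz v)).trans (MulEquiv.subgroupCongr (map_Cz e v))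
  exact ⟨f w, pPrimeCore_map_equiv (p := 2) f ▸ mem_map_of_mem _ hw, rfl⟩

theorem Cent.map {c : G} (hC : Cent v c J) (e : G ≃* G) :
    Cent (e v) (e c) (J.map e.toMonoidHom) := by
  rintro _ ⟨j, hj, rfl⟩
  show ⁅e c, e j⁆ ∈ Oz (e v)
  rw [← map_commutatorElement e]
  exact Oz_map_mem e (hC j hj)

theorem Cong.map {a b : G} (hc : Cong v a b) (e : G ≃* G) : Cong (e v) (e a) (e b) := by
  show (e a)⁻¹ * e b ∈ _
  rw [← map_inv, ← map_mul]
  exact Oz_map_mem e hc

theorem cent_mul {a b : G} (ha : a ∈ Cz v) (hA : Cent v a J) (hB : Cent v b J) :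
    Cent v (a * b) J := fun j hj => by
  rw [show ⁅a * b, j⁆ = a * ⁅b, j⁆ * a⁻¹ * ⁅a, j⁆ by simp only [commutatorElement_def]; group]
  exact mul_mem (conj_mem_Oz (hB j hj) ha) (hA j hj)

theorem Fund.cent_self (h : Fund v J) : Cent v v J := fun j hj => by
  rw [commutatorElement_eq_one_iff_mul_comm.2 (h.commute_v hj).eq.symm]
  exact one_mem _

/-- An element of order 4 is inverted by another one. -/
theorem Quat.anti {a g : G} (h : Fund v J) (hQ : IsSylJ Q J) (hq : Quat v Q a) (hg : g ∈ Q)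
    (hgv : g * g = v) : ∃ g' ∈ Q, g' * g' = v ∧ g' * g * g'⁻¹ = g⁻¹ := by
  by_cases hga : g ∈ zpowers a
  · obtain ⟨x, hx, hxa⟩ := hq.ex
    obtain ⟨hinv, hxv⟩ := (hq.out x hx).resolve_left hxa
    obtain ⟨i, rfl⟩ := hga
    exact ⟨x, hx, hxv, by rw [← conj_zpow, hinv, inv_zpow]⟩
  · obtain ⟨hinv, -⟩ := (hq.out g hg).resolve_left hga
    set r := a ^ (orderOf a / 4) with hr
    have h4 : orderOf r = 4 := by
      rw [orderOf_pow_of_dvd (Nat.div_pos (Nat.le_of_dvd (orderOf_pos a) hq.four) (by norm_num)).ne'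
        (Nat.div_dvd_of_dvd hq.four), Nat.div_div_self hq.four (orderOf_pos a).ne']
    have hrQ : r ∈ Q := pow_mem hq.mem _
    have hrr : r * r = v := by
      refine h.uniq _ (hQ.1 (mul_mem hrQ hrQ)) ?_
      rw [← pow_two, orderOf_pow, h4]; rfl
    refine ⟨r, hrQ, hrr, ?_⟩
    have h1 : g * r * g⁻¹ = r⁻¹ := by rw [hr, ← conj_pow, hinv, inv_pow]
    calc r * g * r⁻¹ = g * (g⁻¹ * r * g) * r⁻¹ := by group
      _ = g * r⁻¹ * r⁻¹ := by
          have h2 : g⁻¹ * r * g = r⁻¹ := by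
            calc g⁻¹ * r * g = (g⁻¹ * (g * r * g⁻¹) * g)⁻¹ := by rw [h1]; group
              _ = r⁻¹ := by group
          rw [h2]
      _ = g * (r * r)⁻¹ := by group
      _ = g⁻¹ := by rw [hrr, h.v_inv]; exact eq_inv_of_mul_eq_one_left (by
          rw [mul_assoc, (h.commute_v (hQ.1 hg)).symm.eq, ← mul_assoc, hgv, h.vv])

/-- Two such subgroups share no nontrivial 2-element unless the involutions agree. -/
theorem eq_of_two_mem (h : Fund v J) (h' : Fund u K) {x : G} (hx : x ∈ J) (hx' : x ∈ K)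
    (h2 : IsPGroup 2 (zpowers x)) (h1 : x ≠ 1) : v = u := by
  haveI : Fact (Nat.Prime 2) := ⟨Nat.prime_two⟩
  have hev : Even (Nat.card (zpowers x)) := by
    obtain ⟨k, hk⟩ := IsPGroup.iff_card.1 h2
    rw [hk]
    refine Nat.even_pow.2 ⟨even_two, fun e => h1 ?_⟩
    rw [Nat.card_zpowers, e, pow_zero, orderOf_eq_one_iff] at hk
    exact hk
  obtain ⟨t, ht, ht2⟩ := Invol.exists_orderOf_two_mem hev
  rw [← h.uniq t (zpowers_le.2 hx ht) ht2, h'.uniq t (zpowers_le.2 hx' ht) ht2]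

/-- The involution of a component is a power of each nontrivial 2-element of it. -/
theorem Fund.mem_zpowers (h : Fund v J) {x : G} (hx : x ∈ J) (h2 : IsPGroup 2 (zpowers x))
    (h1 : x ≠ 1) : v ∈ zpowers x := by
  haveI : Fact (Nat.Prime 2) := ⟨Nat.prime_two⟩
  have hev : Even (Nat.card (zpowers x)) := by
    obtain ⟨k, hk⟩ := IsPGroup.iff_card.1 h2
    rw [hk]
    refine Nat.even_pow.2 ⟨even_two, fun e => h1 ?_⟩
    rw [Nat.card_zpowers, e, pow_zero, orderOf_eq_one_iff] at hk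
    exact hk
  obtain ⟨t, ht, ht2⟩ := Invol.exists_orderOf_two_mem hev
  rw [← h.uniq t (zpowers_le.2 hx ht) ht2]
  exact ht

end Cfsg.Agent.Fus.FundPair
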